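import Groth.Agent.H7Flat.ElemDev.Assembly
import Mathlib

/-!
# Existence of elementary dévissages
-/

set_option autoImplicit false
set_option linter.style.haveILetI false
set_option backward.isDefEq.respectTransparency false
set_option maxHeartbeats 1000000

universe u

open TensorProduct

attribute [local instance] Algebra.TensorProduct.rightAlgebra

namespace Groth.Agent.H7Flat.ElemDev

/-- Algebraic closedness of the base field in the residue field, transported. -/
theorem algClosed_transfer {k L L' : Type u} [Field k] [Field L] [Field L'] (a : k →+* L) (E : L →+* L')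
    (hE : Function.Surjective E) (a' : k →+* L') (hc : E.comp a = a')
    (h : ∀ x, a.IsIntegralElem x → x ∈ a.range) : ∀ x, a'.IsIntegralElem x → x ∈ a'.range := by
  intro x hx
  obtain ⟨z, rfl⟩ := hE x
  obtain ⟨f, hf, hfz⟩ := hx
  have hz : a.IsIntegralElem z := ⟨f, hf, E.injective (by
    rw [map_zero, Polynomial.hom_eval₂, hc]; exact hfz)⟩
  obtain ⟨c, rfl⟩ := h z hz
  exact ⟨c, (RingHom.congr_fun hc c).symm⟩

theorem fracSurj_residueField {R : Type u} [CommRing R] (p : Ideal R) [p.IsPrime] :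
    FracSurj (algebraMap R p.ResidueField) (⊥ : Ideal p.ResidueField) := by
  intro t
  obtain ⟨c, d, hd, rfl⟩ := IsFractionRing.div_surjective (A := R ⧸ p) t
  obtain ⟨c, rfl⟩ := Ideal.Quotient.mk_surjective c
  obtain ⟨d, rfl⟩ := Ideal.Quotient.mk_surjective d
  have hd' : algebraMap R p.ResidueField d ≠ 0 := fun h => nonZeroDivisors.ne_zero hd
    (Ideal.Quotient.eq_zero_iff_mem.mpr (Ideal.algebraMap_residueField_eq_zero.mp h))
  refine ⟨c, d, fun h => hd' ((Submodule.mem_bot _).mp h), (Submodule.mem_bot _).mpr ?_⟩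
  show algebraMap R p.ResidueField c / algebraMap R p.ResidueField d * algebraMap R p.ResidueField d - _ = 0
  rw [div_mul_cancel₀ _ hd', sub_self]

theorem connectedSpace_of_comp {k A : Type u} [Field k] [CommRing A] [Algebra k A]
    [ConnectedSpace (PrimeSpectrum A)] (x : PrimeSpectrum A)
    (hx : ∀ a, ((algebraMap A x.asIdeal.ResidueField).comp (algebraMap k A)).IsIntegralElem a →
      a ∈ ((algebraMap A x.asIdeal.ResidueField).comp (algebraMap k A)).range)
    (K : Type u) [Field K] [Algebra k K] : ConnectedSpace (PrimeSpectrum (K ⊗[k] A)) := by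
  refine connectedSpace_tensor_of_algClosed x (fun a ha => ?_) K
  have e := IsScalarTower.algebraMap_eq k A x.asIdeal.ResidueField
  unfold IsIntegral at ha
  rw [e] at ha ⊢
  exact hx a ha

/-- The canonical map of residue fields commutes with composition. -/
theorem mapₐ_comp {R A B : Type u} [CommRing R] [CommRing A] [CommRing B] [Algebra R A] [Algebra R B]
    [Algebra A B] [IsScalarTower R A B] (p : Ideal R) [p.IsPrime] (y : Ideal A) [y.IsPrime] (z : Ideal B)
    [z.IsPrime] (h₁ : p = y.comap (algebraMap R A)) (h₂ : y = z.comap (algebraMap A B))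
    (h₃ : p = z.comap (algebraMap R B)) :
    (Ideal.ResidueField.mapₐ y z (Algebra.ofId A B) h₂).toRingHom.comp
      (Ideal.ResidueField.mapₐ p y (Algebra.ofId R A) h₁).toRingHom =
      (Ideal.ResidueField.mapₐ p z (Algebra.ofId R B) h₃).toRingHom := by
  refine Ideal.ResidueField.ringHom_ext (RingHom.ext fun r => ?_)
  show Ideal.ResidueField.mapₐ y z (Algebra.ofId A B) h₂
      (Ideal.ResidueField.mapₐ p y (Algebra.ofId R A) h₁ (algebraMap R p.ResidueField r)) =
    Ideal.ResidueField.mapₐ p z (Algebra.ofId R B) h₃ (algebraMap R p.ResidueField r)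
  rw [AlgHom.commutes, AlgHom.commutes, IsScalarTower.algebraMap_apply R A y.ResidueField,
    AlgHom.commutes, ← IsScalarTower.algebraMap_apply]

/-- Pure transcendence passes to a point without residue extension. -/
theorem purelyTranscendental_of_fracSurj {R P R' D : Type u} [CommRing R] [CommRing P] [CommRing R']
    [CommRing D] [Algebra R P] [Algebra R R'] [Algebra P D] [Algebra R' D] [Algebra R D]
    [IsScalarTower R P D] [IsScalarTower R R' D] (p : Ideal R) [p.IsPrime] (y : Ideal P) [y.IsPrime]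
    [hy : y.LiesOver p] (p' : Ideal R') [p'.IsPrime] (hp : p = p'.comap (algebraMap R R'))
    (hfp : FracSurj (algebraMap R R') p') (y' : Ideal D) [y'.IsPrime] [hy' : y'.LiesOver p']
    (hyy : y = y'.comap (algebraMap P D)) (hfy : FracSurj (algebraMap P D) y')
    (h : FlatCA.PurelyTranscendental p y) : FlatCA.PurelyTranscendental p' y' := by
  have h₃ : p = y'.comap (algebraMap R D) := by
    rw [IsScalarTower.algebraMap_eq R R' D, ← Ideal.comap_comap, hp]
    exact congrArg (fun I => I.comap (algebraMap R R')) hy'.over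
  letI := (Ideal.ResidueField.mapₐ p y (Algebra.ofId R P) hy.over).toRingHom.toAlgebra
  letI := (Ideal.ResidueField.mapₐ p' y' (Algebra.ofId R' D) hy'.over).toRingHom.toAlgebra
  refine H8Props.Devissage.purelyTransc_transfer
    (RingEquiv.ofBijective (Ideal.ResidueField.mapₐ p p' (Algebra.ofId R R') hp).toRingHom
      (bijective_of_fracSurj hp hfp))
    (RingEquiv.ofBijective (Ideal.ResidueField.mapₐ y y' (Algebra.ofId P D) hyy).toRingHom
      (bijective_of_fracSurj hyy hfy)) ?_ h
  exact (mapₐ_comp p p' y' hp hy'.over h₃).trans (mapₐ_comp p y y' hy.over hyy h₃).symm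

open AlgebraicGeometry CategoryTheory in
theorem smoothRelDim_comp_etale {R T D : Type u} [CommRing R] [CommRing T] [CommRing D] [Algebra R T]
    [Algebra R D] [Algebra T D] [IsScalarTower R T D] [Algebra.Etale T D] {n : ℕ}
    (h : FlatCA.SmoothRelDim n R T) : FlatCA.SmoothRelDim n R D := by
  let f := Spec.map (CommRingCat.ofHom (algebraMap R T))
  let g := Spec.map (CommRingCat.ofHom (algebraMap T D))
  haveI : Etale g := (HasRingHomProperty.Spec_iff (P := @Etale)).mpr (RingHom.etale_algebraMap.mpr ‹_›)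
  haveI : SmoothOfRelativeDimension n f := h
  have e : g ≫ f = Spec.map (CommRingCat.ofHom (algebraMap R D)) := by
    rw [← Spec.map_comp, ← CommRingCat.ofHom_comp, ← IsScalarTower.algebraMap_eq]
  show SmoothOfRelativeDimension n _
  rw [← e]
  have := smoothOfRelativeDimension_comp 0 n g f
  simpa using this

/-- The piece cut out by the idempotent, after a base change without residue extension. -/
theorem exists_piece {P D₀ D C₀ : Type u} [CommRing P] [CommRing D₀] [CommRing D] [CommRing C₀]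
    [Algebra P D₀] [Algebra P D] [Algebra D₀ D] [IsScalarTower P D₀ D] [Algebra P C₀] {y₀ : Ideal D₀}
    (y' : Ideal D) [y'.IsPrime] (qb : Ideal C₀) [qb.IsPrime] (hy₀ : y'.comap (algebraMap D₀ D) = y₀)
    (hf₀ : FracSurj (algebraMap P D₀) y₀) (hfy : FracSurj (algebraMap P D) y')
    (hpq : qb.comap (algebraMap P C₀) = y'.comap (algebraMap P D)) (e : D₀ ⊗[P] C₀)
    (he : IsIdempotentElem e) (hfin : Module.Finite D₀ (Localization.Away e)) (Q₀ : Ideal (D₀ ⊗[P] C₀))
    [Q₀.IsPrime]
    (hQ₀y : Q₀.comap (Algebra.TensorProduct.includeLeftRingHom : D₀ →+* D₀ ⊗[P] C₀) = y₀)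
    (hQ₀q : Q₀.comap (Algebra.TensorProduct.includeRight (R := P) (A := D₀) (B := C₀)).toRingHom = qb)
    (heQ₀ : e ∉ Q₀)
    (huniq : ∀ Q : Ideal (D₀ ⊗[P] C₀), Q.IsPrime → Q.LiesOver y₀ → e ∉ Q → Q = Q₀) :
    ∃ e' : D ⊗[P] C₀, IsIdempotentElem e' ∧ Module.Finite D (Localization.Away e') ∧
      ∃ Q : Ideal (D ⊗[P] C₀), Q.IsPrime ∧
        Q.comap (Algebra.TensorProduct.includeLeftRingHom : D →+* D ⊗[P] C₀) = y' ∧
        Q.comap (Algebra.TensorProduct.includeRight (R := P) (A := D) (B := C₀)).toRingHom = qb ∧ e' ∉ Q ∧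
        ∀ Q' : Ideal (D ⊗[P] C₀), Q'.IsPrime →
          Q'.comap (Algebra.TensorProduct.includeLeftRingHom : D →+* D ⊗[P] C₀) = y' → e' ∉ Q' → Q' = Q := by
  obtain ⟨Q, hQ, hQy, hQq⟩ := exists_prime_tensor y' qb hpq hfy
  let φ := Algebra.TensorProduct.map (IsScalarTower.toAlgHom P D₀ D) (AlgHom.id P C₀)
  have h0 : Q.comap φ.toRingHom = Q₀ := by
    haveI : (Q.comap φ.toRingHom).IsPrime := Ideal.IsPrime.comap _
    refine (eq_of_comap_eq (algebraMap P D₀) (algebraMap P C₀)
      (Algebra.TensorProduct.includeLeftRingHom : D₀ →+* D₀ ⊗[P] C₀)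
      (Algebra.TensorProduct.includeRight (R := P) (A := D₀) (B := C₀)).toRingHom
      (RingHom.ext fun r => ?_) (closure_range_tensor P D₀ C₀) (hQ₀y.symm ▸ hf₀) ?_ ?_).symm
    · show (algebraMap P D₀ r) ⊗ₜ[P] (1 : C₀) = (1 : D₀) ⊗ₜ[P] algebraMap P C₀ r
      rw [Algebra.algebraMap_eq_smul_one, Algebra.algebraMap_eq_smul_one, TensorProduct.smul_tmul]
    · rw [hQ₀q, ← hQq, Ideal.comap_comap]
      congr 1
      ext c
      simp [φ]
    · rw [hQ₀y, ← hy₀, ← hQy, Ideal.comap_comap, Ideal.comap_comap]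
      congr 1
  have heQ : φ e ∉ Q := fun h => heQ₀ (h0 ▸ h)
  exact ⟨φ e, he.map φ, finite_away_baseChange e he hfin, Q, hQ, hQy, hQq, heQ,
    fun Q' hQ' h' he' => unique_baseChange hy₀ hfy huniq h' hQy he' heQ⟩

theorem exists_elemDevissage {R S : Type u} [CommRing R] [CommRing S] [Algebra R S]
    [Algebra.FiniteType R S] (N : Type u) [AddCommGroup N] [Module S N] [Module R N]
    [IsScalarTower R S N] [Module.Finite S N] (p : Ideal R) [p.IsPrime] (q : Ideal S) [q.IsPrime]
    [q.LiesOver p] (n : ℕ) (x : PrimeSpectrum (p.Fiber S)) (hxq : x.asIdeal = FlatCA.fiberIdeal p q)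
    (hx : x ∈ Module.support (p.Fiber S) (FlatCA.fiberMod p S N))
    (hn : FlatMor.localDim (Module.support (p.Fiber S) (FlatCA.fiberMod p S N)) ⟨x, hx⟩ = n) :
    Nonempty (FlatCA.ElemDevissage R S N p q n) := by
  classical
  obtain ⟨g, hgq, s, hsann, hsq, hdim⟩ := exists_shrink N p q n x hxq hx hn
  -- the shrunk algebra
  let S₁ := Localization.Away g
  let J : Ideal S₁ := Ideal.span ((algebraMap S S₁) '' (s : Set S))
  let q₁ : Ideal S₁ := q.map (algebraMap S S₁)
  have hdisj : Disjoint (Submonoid.powers g : Set S) q := by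
    rw [Set.disjoint_left]
    rintro _ ⟨k, rfl⟩ h
    exact hgq (‹q.IsPrime›.mem_of_pow_mem k h)
  haveI hq₁ : q₁.IsPrime := IsLocalization.isPrime_of_isPrime_disjoint (Submonoid.powers g) S₁ q ‹_› hdisj
  have hq₁c : q₁.comap (algebraMap S S₁) = q :=
    IsLocalization.under_map_of_isPrime_disjoint (Submonoid.powers g) S₁ ‹_› hdisj
  haveI : Algebra.Etale S S₁ := Algebra.Etale.of_isLocalizationAway g
  have hS₁ : FlatCA.IsEtaleNhd S S₁ q q₁ :=
    isEtaleNhd_of_fracSurj hq₁c.symm (fracSurj_of_isLocalization (Submonoid.powers g) S₁ q₁)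
  haveI : Algebra.FiniteType R S₁ := Algebra.FiniteType.trans ‹Algebra.FiniteType R S› inferInstance
  let N₁ := S₁ ⊗[S] N
  have hJfg : J.FG := ⟨s.image (algebraMap S S₁), by rw [Finset.coe_image]⟩
  have hJN : J ≤ Module.annihilator S₁ N₁ := by
    refine Ideal.span_le.mpr ?_
    rintro _ ⟨a, ha, rfl⟩
    rw [SetLike.mem_coe, Module.mem_annihilator]
    intro t
    induction t using TensorProduct.induction_on with
    | zero => exact smul_zero _
    | add x y hx hy => rw [smul_add, hx, hy, add_zero]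
    | tmul b m =>
      rw [TensorProduct.smul_tmul', smul_eq_mul, ← Algebra.smul_def, TensorProduct.smul_tmul,
        Module.mem_annihilator.mp (hsann ha), TensorProduct.tmul_zero]
  have hJq : J ≤ q₁ := Ideal.span_le.mpr (by
    rintro _ ⟨a, ha, rfl⟩
    exact Ideal.mem_map_of_mem _ (hsq ha))
  let C₀ := S₁ ⧸ J
  let qb : Ideal C₀ := q₁.map (Ideal.Quotient.mk J)
  haveI : qb.IsPrime := Ideal.map_isPrime_of_surjective Ideal.Quotient.mk_surjective
    (by rwa [Ideal.mk_ker])
  have hqbc : qb.comap (Ideal.Quotient.mk J) = q₁ := by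
    rw [Ideal.comap_map_of_surjective _ Ideal.Quotient.mk_surjective, ← RingHom.ker_eq_comap_bot,
      Ideal.mk_ker, sup_eq_left.mpr hJq]
  haveI : qb.LiesOver p := ⟨by
    rw [q.over_def p, ← hq₁c, ← hqbc, Ideal.under_def, Ideal.comap_comap, Ideal.comap_comap]
    rfl⟩
  haveI : Algebra.FiniteType R C₀ := Algebra.FiniteType.of_surjective (Ideal.Quotient.mkₐ R J)
    Ideal.Quotient.mk_surjective
  -- the chart
  obtain ⟨θ₀, hyp, hqf, hpt, hac⟩ := exists_adapted p qb n hdim
  choose l hl using fun i : Fin n => Ideal.Quotient.mk_surjective (I := J) (θ₀ (MvPolynomial.X i))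
  let θ : MvPolynomial (Fin n) R →ₐ[R] S₁ := MvPolynomial.aeval l
  have hθ : (Ideal.Quotient.mkₐ R J).comp θ = θ₀ := MvPolynomial.algHom_ext fun i => by
    show Ideal.Quotient.mk J (θ (MvPolynomial.X i)) = θ₀ (MvPolynomial.X i)
    rw [MvPolynomial.aeval_X]
    exact hl i
  letI : Algebra (MvPolynomial (Fin n) R) S₁ := θ.toRingHom.toAlgebra
  haveI : IsScalarTower R (MvPolynomial (Fin n) R) S₁ :=
    IsScalarTower.of_algebraMap_eq fun r => (θ.commutes r).symm
  have hP : algebraMap (MvPolynomial (Fin n) R) C₀ = θ₀.toRingHom := by rw [← hθ]; rfl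
  haveI : IsScalarTower R (MvPolynomial (Fin n) R) C₀ := inferInstance
  haveI : Algebra.QuasiFiniteAt (MvPolynomial (Fin n) R) qb := by
    convert hqf using 2
    exact Algebra.algebra_ext _ _ fun r => RingHom.congr_fun hP r
  haveI : Algebra.FiniteType (MvPolynomial (Fin n) R) C₀ := .of_restrictScalars_finiteType R _ _
  let y := qb.comap θ₀.toRingHom
  haveI : qb.LiesOver y := ⟨by rw [Ideal.under_def, hP]⟩
  obtain ⟨D₀, _, _, _, y₀, _, _, e, he, Q₀, _, _, hQ₀q, heQ₀, hbij, hfin, huniq⟩ :=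
    Algebra.exists_etale_isIdempotentElem_forall_liesOver_eq y qb
  letI : Algebra R D₀ := ((algebraMap (MvPolynomial (Fin n) R) D₀).comp (algebraMap R _)).toAlgebra
  haveI : IsScalarTower R (MvPolynomial (Fin n) R) D₀ := IsScalarTower.of_algebraMap_eq fun _ => rfl
  have hy₀p : p = y₀.comap (algebraMap R D₀) := by
    rw [IsScalarTower.algebraMap_eq R (MvPolynomial (Fin n) R) D₀, ← Ideal.comap_comap]
    exact hyp.over.trans (congrArg (fun I => I.comap (algebraMap R (MvPolynomial (Fin n) R)))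
      (y₀.over_def y))
  haveI : y₀.LiesOver p := ⟨hy₀p⟩
  haveI : Algebra.Smooth R (MvPolynomial (Fin n) R) := ⟨inferInstance, inferInstance⟩
  haveI : Algebra.Smooth R D₀ := Algebra.Smooth.comp R (MvPolynomial (Fin n) R) D₀
  have hac₀ := algClosed_transfer _ _ hbij.2 _ (mapₐ_comp p y y₀ hyp.over (y₀.over_def y) hy₀p) hac
  -- a connected fibre
  obtain ⟨a, hay, hconn₀⟩ := exists_connected_nbhd p y₀
  let Da := Localization.Away a
  haveI : Algebra.Etale D₀ Da := Algebra.Etale.of_isLocalizationAway a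
  haveI : Algebra.Etale (MvPolynomial (Fin n) R) Da := Algebra.Etale.comp _ D₀ Da
  haveI : Algebra.Smooth R Da := Algebra.Smooth.comp R (MvPolynomial (Fin n) R) Da
  let ya := y₀.map (algebraMap D₀ Da)
  have hdisja : Disjoint (Submonoid.powers a : Set D₀) y₀ := by
    rw [Set.disjoint_left]
    rintro _ ⟨k, rfl⟩ h
    exact hay (‹y₀.IsPrime›.mem_of_pow_mem k h)
  haveI : ya.IsPrime := IsLocalization.isPrime_of_isPrime_disjoint (Submonoid.powers a) Da y₀ ‹_› hdisja
  have hyac : ya.comap (algebraMap D₀ Da) = y₀ :=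
    IsLocalization.under_map_of_isPrime_disjoint (Submonoid.powers a) Da ‹_› hdisja
  have hyap : p = ya.comap (algebraMap R Da) := by
    rw [IsScalarTower.algebraMap_eq R D₀ Da, ← Ideal.comap_comap, hyac]
    exact hy₀p
  haveI : ya.LiesOver p := ⟨hyap⟩
  have hfa : FracSurj (algebraMap D₀ Da) ya := fracSurj_of_isLocalization (Submonoid.powers a) Da ya
  have haca := algClosed_transfer _ _ (bijective_of_fracSurj hyac.symm hfa).2 _
    (mapₐ_comp p y₀ ya hy₀p hyac.symm hyap) hac₀
  let x₀ : PrimeSpectrum (p.Fiber Da) :=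
    ⟨FlatCA.fiberIdeal p ya, H8Props.Devissage.isPrime_fiberIdeal p ya⟩
  haveI : x₀.asIdeal.IsPrime := x₀.isPrime
  have hx₀c : ya = x₀.asIdeal.comap (algebraMap Da (p.Fiber Da)) :=
    (H8Props.Devissage.comap_fiberIdeal p ya).symm
  have hfx : FracSurj (algebraMap Da (p.Fiber Da)) x₀.asIdeal := by
    refine fracSurj_of_generated (algebraMap R p.ResidueField) (algebraMap R Da)
      (Algebra.TensorProduct.includeLeftRingHom : p.ResidueField →+* p.Fiber Da)
      (algebraMap Da (p.Fiber Da)) (RingHom.ext fun r => ?_) (closure_range_tensor R p.ResidueField Da) _ ?_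
    · show (algebraMap R p.ResidueField r) ⊗ₜ[R] (1 : Da) = (1 : p.ResidueField) ⊗ₜ[R] algebraMap R Da r
      rw [Algebra.algebraMap_eq_smul_one, Algebra.algebraMap_eq_smul_one, TensorProduct.smul_tmul]
    · have h := Ideal.comap_ne_top (Algebra.TensorProduct.includeLeftRingHom : p.ResidueField →+* p.Fiber Da)
        x₀.isPrime.ne_top
      rw [(Ideal.eq_bot_or_top _).resolve_right h]
      exact fracSurj_residueField p
  have hacx : ∀ b : x₀.asIdeal.ResidueField,
      ((algebraMap (p.Fiber Da) x₀.asIdeal.ResidueField).comp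
        (algebraMap p.ResidueField (p.Fiber Da))).IsIntegralElem b →
      b ∈ ((algebraMap (p.Fiber Da) x₀.asIdeal.ResidueField).comp
        (algebraMap p.ResidueField (p.Fiber Da))).range := by
    refine algClosed_transfer _ _ (bijective_of_fracSurj hx₀c hfx).2 _ ?_ haca
    refine Ideal.ResidueField.ringHom_ext (RingHom.ext fun r => ?_)
    show Ideal.ResidueField.mapₐ ya x₀.asIdeal (Algebra.ofId Da (p.Fiber Da)) hx₀c
      (Ideal.ResidueField.mapₐ p ya (Algebra.ofId R Da) hyap (algebraMap R p.ResidueField r)) =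
      algebraMap (p.Fiber Da) x₀.asIdeal.ResidueField
        (algebraMap p.ResidueField (p.Fiber Da) (algebraMap R p.ResidueField r))
    rw [AlgHom.commutes, IsScalarTower.algebraMap_apply R Da ya.ResidueField, AlgHom.commutes,
      IsScalarTower.algebraMap_apply Da (p.Fiber Da) x₀.asIdeal.ResidueField]
    refine congrArg _ ?_
    show (1 : p.ResidueField) ⊗ₜ[R] algebraMap R Da r = (algebraMap R p.ResidueField r) ⊗ₜ[R] (1 : Da)
    rw [Algebra.algebraMap_eq_smul_one, Algebra.algebraMap_eq_smul_one, TensorProduct.smul_tmul]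
  haveI := hconn₀
  obtain ⟨R₂, _, _, p₂, _, y₂, _, h, hR₂, hy₂p, hy₂y, hhy, hgi⟩ :=
    exists_geomIrred_nbhd (R := R) (D := Da) p ya fun K _ _ => connectedSpace_of_comp x₀ hacx K
  obtain ⟨hpp₂, hfp₂⟩ := isEtaleNhd_fracSurj hR₂
  haveI : Algebra.Etale R R₂ := hR₂.1
  -- the new chart
  let T := R₂ ⊗[R] Da
  haveI : Algebra.Etale Da T :=
    Algebra.Etale.of_equiv (A := Da ⊗[R] R₂)
      ({ (Algebra.TensorProduct.comm R Da R₂).toRingEquiv with
        commutes' := fun d => by
          show Algebra.TensorProduct.comm R Da R₂ (d ⊗ₜ 1) = (1 : R₂) ⊗ₜ d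
          simp } : Da ⊗[R] R₂ ≃ₐ[Da] T)
  letI : Algebra D₀ T := ((algebraMap Da T).comp (algebraMap D₀ Da)).toAlgebra
  haveI : IsScalarTower D₀ Da T := IsScalarTower.of_algebraMap_eq fun _ => rfl
  letI : Algebra (MvPolynomial (Fin n) R) T :=
    ((algebraMap Da T).comp (algebraMap (MvPolynomial (Fin n) R) Da)).toAlgebra
  haveI : IsScalarTower (MvPolynomial (Fin n) R) Da T := IsScalarTower.of_algebraMap_eq fun _ => rfl
  haveI : IsScalarTower (MvPolynomial (Fin n) R) D₀ T := IsScalarTower.of_algebraMap_eq fun r => by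
    show algebraMap Da T (algebraMap (MvPolynomial (Fin n) R) Da r) =
      algebraMap Da T (algebraMap D₀ Da (algebraMap (MvPolynomial (Fin n) R) D₀ r))
    rw [← IsScalarTower.algebraMap_apply (MvPolynomial (Fin n) R) D₀ Da]
  haveI : IsScalarTower R Da T := IsScalarTower.of_algebraMap_eq fun r => by
    show (algebraMap R R₂ r) ⊗ₜ[R] (1 : Da) = (1 : R₂) ⊗ₜ[R] algebraMap R Da r
    rw [Algebra.algebraMap_eq_smul_one, Algebra.algebraMap_eq_smul_one, TensorProduct.smul_tmul]
  haveI : IsScalarTower R (MvPolynomial (Fin n) R) T := IsScalarTower.of_algebraMap_eq fun r => by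
    rw [IsScalarTower.algebraMap_apply (MvPolynomial (Fin n) R) Da T, ← IsScalarTower.algebraMap_apply R _ Da,
      ← IsScalarTower.algebraMap_apply R Da T]
  let D := Localization.Away h
  haveI : Algebra.Etale T D := Algebra.Etale.of_isLocalizationAway h
  haveI : Algebra.Etale (MvPolynomial (Fin n) R) T := Algebra.Etale.comp _ Da T
  haveI : Algebra.Etale (MvPolynomial (Fin n) R) D := Algebra.Etale.comp _ T D
  haveI : Algebra.Smooth R₂ T := inferInstance
  haveI : Algebra.Smooth R₂ D := Algebra.Smooth.comp R₂ T D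
  have hsm : FlatCA.SmoothRelDim n R₂ D :=
    smoothRelDim_comp_etale (T := T) (H8Props.Devissage.smoothRelDim_baseChange R R₂ Da T n
      (smoothRelDim_of_etale (R := R) (D := Da)))
  let y' := y₂.map (algebraMap T D)
  have hdisjh : Disjoint (Submonoid.powers h : Set T) y₂ := by
    rw [Set.disjoint_left]
    rintro _ ⟨k, rfl⟩ h'
    exact hhy (‹y₂.IsPrime›.mem_of_pow_mem k h')
  haveI : y'.IsPrime := IsLocalization.isPrime_of_isPrime_disjoint (Submonoid.powers h) D y₂ ‹_› hdisjh
  have hy'c : y'.comap (algebraMap T D) = y₂ :=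
    IsLocalization.under_map_of_isPrime_disjoint (Submonoid.powers h) D ‹_› hdisjh
  haveI : y'.LiesOver p₂ := ⟨by
    rw [← hy₂p, ← hy'c, Ideal.under_def, IsScalarTower.algebraMap_eq R₂ T D, Ideal.comap_comap]
    rfl⟩
  have hy'₀ : y'.comap (algebraMap D₀ D) = y₀ := by
    rw [IsScalarTower.algebraMap_eq D₀ T D, ← Ideal.comap_comap, hy'c,
      IsScalarTower.algebraMap_eq D₀ Da T, ← Ideal.comap_comap]
    refine (congrArg (fun I : Ideal Da => I.comap (algebraMap D₀ Da)) ?_).trans hyac
    exact hy₂y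
  have hy'P : y = y'.comap (algebraMap (MvPolynomial (Fin n) R) D) := by
    rw [IsScalarTower.algebraMap_eq (MvPolynomial (Fin n) R) D₀ D, ← Ideal.comap_comap, hy'₀]
    exact y₀.over_def y
  have hfy : FracSurj (algebraMap (MvPolynomial (Fin n) R) D) y' := by
    rw [IsScalarTower.algebraMap_eq (MvPolynomial (Fin n) R) D₀ D]
    refine FracSurj.comp ?_ ?_
    · rw [IsScalarTower.algebraMap_eq D₀ T D]
      refine (fracSurj_of_isLocalization (Submonoid.powers h) D y').comp ?_
      rw [hy'c, IsScalarTower.algebraMap_eq D₀ Da T]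
      refine FracSurj.comp ?_ ?_
      · refine fracSurj_of_generated (algebraMap R R₂) (algebraMap R Da)
          (Algebra.TensorProduct.includeLeftRingHom : R₂ →+* T) (algebraMap Da T)
          (RingHom.ext fun r => ?_) (closure_range_tensor R R₂ Da) _ (hy₂p.symm ▸ hfp₂)
        show (algebraMap R R₂ r) ⊗ₜ[R] (1 : Da) = (1 : R₂) ⊗ₜ[R] algebraMap R Da r
        rw [Algebra.algebraMap_eq_smul_one, Algebra.algebraMap_eq_smul_one, TensorProduct.smul_tmul]
      · have : y₂.comap (algebraMap Da T) = ya := hy₂y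
        rw [this]
        exact hfa
    · rw [hy'₀]
      exact fracSurj_of_bijective (y₀.over_def y) hbij.2
  have hpt' : FlatCA.PurelyTranscendental p₂ y' :=
    purelyTranscendental_of_fracSurj p y p₂ hpp₂ hfp₂ y' hy'P hfy hpt
  -- the piece
  obtain ⟨e', he', hfin', Q, hQ, hQy, hQq, heQ, huniq'⟩ := exists_piece y' qb hy'₀
    (fracSurj_of_bijective (y₀.over_def y) hbij.2) hfy (by rw [hP]; exact hy'P) e he hfin Q₀
    (Q₀.over_def y₀).symm hQ₀q heQ₀ huniq
  exact nonempty_of_data N p q S₁ q₁ hS₁ N₁ (TensorProduct.mk S S₁ N 1)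
    (TensorProduct.isBaseChange S N S₁) J hJfg hJN hJq (MvPolynomial (Fin n) R) R₂ p₂ hR₂ D y'
    (hy'P.symm.trans (by
      show qb.comap θ₀.toRingHom = q₁.comap θ.toRingHom
      rw [← hqbc, ← hθ, Ideal.comap_comap]
      rfl)) hfy hpt' hsm
    (DevissageChain.geomIntegralFibres hgi) e' he' hfin' Q hQy hQq heQ huniq'

end Groth.Agent.H7Flat.ElemDev
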