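import Groth.Agent.H7Flat.ElemDev.Shrink
import Mathlib

/-!
# Assembling an elementary dévissage
-/

set_option autoImplicit false
set_option linter.style.haveILetI false
set_option backward.isDefEq.respectTransparency false
set_option maxHeartbeats 1000000

universe u

open TensorProduct

namespace Groth.Agent.H7Flat.ElemDev

/-- In a localisation at an idempotent the idempotent becomes one. -/
theorem map_idem_eq_one {A B : Type u} [CommRing A] [CommRing B] [Algebra A B] {e : A}
    (he : IsIdempotentElem e) [IsLocalization.Away e B] : algebraMap A B e = 1 :=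
  (IsIdempotentElem.iff_eq_one_of_isUnit (IsLocalization.Away.algebraMap_isUnit e)).mp
    (he.map (algebraMap A B))

theorem surjective_away_idem {A : Type u} [CommRing A] {e : A} (he : IsIdempotentElem e) :
    Function.Surjective (algebraMap A (Localization.Away e)) := fun t => by
  obtain ⟨⟨a, ⟨_, k, rfl⟩⟩, h⟩ := IsLocalization.surj (Submonoid.powers e) t
  exact ⟨a, by simpa [map_idem_eq_one (B := Localization.Away e) he] using h.symm⟩

/-- Finiteness of the piece cut out by an idempotent is stable under base change. -/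
theorem finite_away_baseChange {P D₀ D' C₀ : Type u} [CommRing P] [CommRing D₀] [CommRing D']
    [CommRing C₀] [Algebra P D₀] [Algebra P D'] [Algebra D₀ D'] [IsScalarTower P D₀ D'] [Algebra P C₀]
    (e : D₀ ⊗[P] C₀) (he : IsIdempotentElem e) (hfin : Module.Finite D₀ (Localization.Away e)) :
    Module.Finite D' (Localization.Away
      ((Algebra.TensorProduct.map (IsScalarTower.toAlgHom P D₀ D') (AlgHom.id P C₀)) e)) := by
  classical
  let φ := Algebra.TensorProduct.map (IsScalarTower.toAlgHom P D₀ D') (AlgHom.id P C₀)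
  let e' := φ e
  have he' : IsIdempotentElem e' := he.map φ
  let M₀ := Localization.Away e
  let M' := Localization.Away e'
  let μ : M₀ →+* M' := IsLocalization.Away.lift e
    (g := (algebraMap (D' ⊗[P] C₀) M').comp φ.toRingHom) (IsLocalization.Away.algebraMap_isUnit e')
  have hμ : ∀ t, μ (algebraMap (D₀ ⊗[P] C₀) M₀ t) = algebraMap (D' ⊗[P] C₀) M' (φ t) := fun t =>
    IsLocalization.Away.lift_eq e _ t
  have hsemi : ∀ (d : D₀) (m : M₀), μ (d • m) = algebraMap D₀ D' d • μ m := by
    intro d m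
    rw [Algebra.smul_def, Algebra.smul_def, map_mul]
    congr 1
    rw [IsScalarTower.algebraMap_apply D₀ (D₀ ⊗[P] C₀) M₀, hμ,
      IsScalarTower.algebraMap_apply D' (D' ⊗[P] C₀) M']
    rfl
  obtain ⟨s, hs⟩ := hfin.fg_top
  refine ⟨⟨s.image μ, eq_top_iff.mpr fun t _ => ?_⟩⟩
  rw [Finset.coe_image]
  have hmem : ∀ m, μ m ∈ Submodule.span D' (μ '' (s : Set M₀)) := by
    intro m
    have hm : m ∈ Submodule.span D₀ (s : Set M₀) := hs ▸ trivial
    induction hm using Submodule.span_induction with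
    | mem x hx => exact Submodule.subset_span ⟨x, hx, rfl⟩
    | zero => simp
    | add x y _ _ hx hy => rw [map_add]; exact Submodule.add_mem _ hx hy
    | smul d x _ hx => rw [hsemi]; exact Submodule.smul_mem _ _ hx
  obtain ⟨a, rfl⟩ := surjective_away_idem he' t
  induction a using TensorProduct.induction_on with
  | zero => simp
  | add x y hx hy => rw [map_add]; exact Submodule.add_mem _ (hx trivial) (hy trivial)
  | tmul d c =>
    have h1 : algebraMap (D' ⊗[P] C₀) M' (d ⊗ₜ c) = d • μ (algebraMap (D₀ ⊗[P] C₀) M₀ (1 ⊗ₜ c)) := by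
      rw [hμ, Algebra.smul_def, IsScalarTower.algebraMap_apply D' (D' ⊗[P] C₀) M', ← map_mul]
      congr 1
      simp [φ]
    rw [h1]
    exact Submodule.smul_mem _ _ (hmem _)

/-- Uniqueness of the point of the piece survives a base change without residue extension. -/
theorem unique_baseChange {P D₀ D' C₀ : Type u} [CommRing P] [CommRing D₀] [CommRing D']
    [CommRing C₀] [Algebra P D₀] [Algebra P D'] [Algebra D₀ D'] [IsScalarTower P D₀ D'] [Algebra P C₀]
    {y₀ : Ideal D₀} {y' : Ideal D'} [y'.IsPrime] (hy : y'.comap (algebraMap D₀ D') = y₀)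
    (hfrac : FracSurj (algebraMap P D') y') {e : D₀ ⊗[P] C₀} {Q₀ : Ideal (D₀ ⊗[P] C₀)}
    (huniq : ∀ Q : Ideal (D₀ ⊗[P] C₀), Q.IsPrime → Q.LiesOver y₀ → e ∉ Q → Q = Q₀)
    {Q₁ Q₂ : Ideal (D' ⊗[P] C₀)} [Q₁.IsPrime] [Q₂.IsPrime]
    (h₁ : Q₁.comap (Algebra.TensorProduct.includeLeftRingHom : D' →+* D' ⊗[P] C₀) = y')
    (h₂ : Q₂.comap (Algebra.TensorProduct.includeLeftRingHom : D' →+* D' ⊗[P] C₀) = y')
    (he₁ : (Algebra.TensorProduct.map (IsScalarTower.toAlgHom P D₀ D') (AlgHom.id P C₀)) e ∉ Q₁)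
    (he₂ : (Algebra.TensorProduct.map (IsScalarTower.toAlgHom P D₀ D') (AlgHom.id P C₀)) e ∉ Q₂) :
    Q₁ = Q₂ := by
  let φ := Algebra.TensorProduct.map (IsScalarTower.toAlgHom P D₀ D') (AlgHom.id P C₀)
  have key : ∀ Q : Ideal (D' ⊗[P] C₀), Q.IsPrime →
      Q.comap (Algebra.TensorProduct.includeLeftRingHom : D' →+* D' ⊗[P] C₀) = y' → φ e ∉ Q →
      Q.comap (Algebra.TensorProduct.includeRight (R := P) (A := D') (B := C₀)).toRingHom =
        Q₀.comap (Algebra.TensorProduct.includeRight (R := P) (A := D₀) (B := C₀)).toRingHom := by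
    intro Q hQ hQy hQe
    have hov : (Q.comap φ.toRingHom).LiesOver y₀ := ⟨by
      rw [← hy, ← hQy, Ideal.under_def, Ideal.comap_comap, Ideal.comap_comap]
      congr 1⟩
    rw [← huniq (Q.comap φ.toRingHom) (Ideal.IsPrime.comap _) hov hQe, Ideal.comap_comap]
    congr 1
    ext c
    simp [φ]
  refine eq_of_comap_eq (algebraMap P D') (algebraMap P C₀)
    (Algebra.TensorProduct.includeLeftRingHom : D' →+* D' ⊗[P] C₀)
    (Algebra.TensorProduct.includeRight (R := P) (A := D') (B := C₀)).toRingHom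
    (RingHom.ext fun r => ?_) (closure_range_tensor P D' C₀) (h₁.symm ▸ hfrac)
    ((key Q₂ ‹_› h₂ he₂).trans (key Q₁ ‹_› h₁ he₁).symm) (h₂.trans h₁.symm)
  show (algebraMap P D' r) ⊗ₜ[P] (1 : C₀) = (1 : D') ⊗ₜ[P] algebraMap P C₀ r
  rw [Algebra.algebraMap_eq_smul_one, Algebra.algebraMap_eq_smul_one, TensorProduct.smul_tmul]

/-- The elementary dévissage from its data. -/
theorem nonempty_of_data {R S : Type u} [CommRing R] [CommRing S] [Algebra R S] (N : Type u)
    [AddCommGroup N] [Module S N] (p : Ideal R) (q : Ideal S) [p.IsPrime] [q.IsPrime] {n : ℕ}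
    -- the shrinking of S
    (S₁ : Type u) [CommRing S₁] [Algebra S S₁] [Algebra R S₁] [IsScalarTower R S S₁] (q₁ : Ideal S₁)
    [q₁.IsPrime] (hS₁ : FlatCA.IsEtaleNhd S S₁ q q₁) (N₁ : Type u) [AddCommGroup N₁] [Module S₁ N₁]
    [Module S N₁] [IsScalarTower S S₁ N₁] [Module.Finite S₁ N₁] (f₁ : N →ₗ[S] N₁) (hf₁ : IsBaseChange S₁ f₁)
    (J : Ideal S₁) (hJfg : J.FG) (hJN : J ≤ Module.annihilator S₁ N₁) (hJq : J ≤ q₁)
    -- the chart
    (P : Type u) [CommRing P] [Algebra R P] [Algebra P S₁] [IsScalarTower R P S₁]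
    (R' : Type u) [CommRing R'] [Algebra R R'] (p' : Ideal R') [p'.IsPrime]
    (hR' : FlatCA.IsEtaleNhd R R' p p')
    (D : Type u) [CommRing D] [Algebra R' D] [Algebra P D] [Algebra R D] [IsScalarTower R R' D]
    [IsScalarTower R P D] [Algebra.Etale P D] (y : Ideal D) [y.IsPrime] [y.LiesOver p']
    (hy : y.comap (algebraMap P D) = q₁.comap (algebraMap P S₁)) (hfrac : FracSurj (algebraMap P D) y)
    (hpt : FlatCA.PurelyTranscendental p' y) (hsm : FlatCA.SmoothRelDim n R' D)
    (hgi : FlatCA.GeomIntegralFibres R' D)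
    (e : D ⊗[P] (S₁ ⧸ J)) (he : IsIdempotentElem e) (hfin : Module.Finite D (Localization.Away e))
    (Q : Ideal (D ⊗[P] (S₁ ⧸ J))) [Q.IsPrime]
    (hQy : Q.comap (Algebra.TensorProduct.includeLeftRingHom : D →+* D ⊗[P] (S₁ ⧸ J)) = y)
    (hQq : Q.comap (Algebra.TensorProduct.includeRight (R := P) (A := D) (B := S₁ ⧸ J)).toRingHom =
      q₁.map (Ideal.Quotient.mk J))
    (heQ : e ∉ Q)
    (huniq : ∀ Q' : Ideal (D ⊗[P] (S₁ ⧸ J)), Q'.IsPrime →
      Q'.comap (Algebra.TensorProduct.includeLeftRingHom : D →+* D ⊗[P] (S₁ ⧸ J)) = y → e ∉ Q' → Q' = Q) :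
    Nonempty (FlatCA.ElemDevissage R S N p q n) := by
  let B := D ⊗[P] (S₁ ⧸ J)
  let A := S₁ ⊗[P] D
  let iB : S₁ →+* B :=
    (Algebra.TensorProduct.includeRight (R := P) (A := D) (B := S₁ ⧸ J)).toRingHom.comp (Ideal.Quotient.mk J)
  let ψ : A →+* B := homTensor iB (Algebra.TensorProduct.includeLeftRingHom : D →+* B) fun r => by
    show (1 : D) ⊗ₜ[P] algebraMap P (S₁ ⧸ J) r = (algebraMap P D r) ⊗ₜ[P] (1 : S₁ ⧸ J)
    rw [Algebra.algebraMap_eq_smul_one, Algebra.algebraMap_eq_smul_one, TensorProduct.smul_tmul]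
  have hψl : ∀ a : S₁, ψ (a ⊗ₜ 1) = iB a := homTensor_left _ _ _
  have hψr : ∀ d : D, ψ (1 ⊗ₜ d) = d ⊗ₜ 1 := homTensor_right _ _ _
  have hψ : Function.Surjective ψ := fun b => by
    induction b using TensorProduct.induction_on with
    | zero => exact ⟨0, map_zero _⟩
    | add x y hx hy =>
      obtain ⟨x', rfl⟩ := hx
      obtain ⟨y', rfl⟩ := hy
      exact ⟨x' + y', map_add _ _ _⟩
    | tmul d c =>
      obtain ⟨a, rfl⟩ := Ideal.Quotient.mk_surjective c
      refine ⟨a ⊗ₜ d, ?_⟩
      rw [show a ⊗ₜ[P] d = (a ⊗ₜ[P] (1 : D)) * ((1 : S₁) ⊗ₜ[P] d) by simp, map_mul, hψl, hψr]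
      show ((1 : D) ⊗ₜ[P] Ideal.Quotient.mk J a) * (d ⊗ₜ[P] 1) = _
      rw [Algebra.TensorProduct.tmul_mul_tmul, one_mul, mul_one]
  obtain ⟨el, hel⟩ := hψ e
  let S' := Localization.Away el
  let iD : D →+* S' := (algebraMap A S').comp
    (Algebra.TensorProduct.includeRight (R := P) (A := S₁) (B := D)).toRingHom
  letI : Algebra R' S' := (iD.comp (algebraMap R' D)).toAlgebra
  haveI : IsScalarTower R R' S' := by
    refine IsScalarTower.of_algebraMap_eq fun r => ?_
    show algebraMap R S' r = iD (algebraMap R' D (algebraMap R R' r))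
    rw [← IsScalarTower.algebraMap_apply R R' D, IsScalarTower.algebraMap_apply R P D,
      IsScalarTower.algebraMap_apply R S₁ S', IsScalarTower.algebraMap_apply S₁ A S',
      IsScalarTower.algebraMap_apply R P S₁]
    refine congrArg (algebraMap A S') ?_
    show (algebraMap P S₁ (algebraMap R P r)) ⊗ₜ[P] (1 : D) = (1 : S₁) ⊗ₜ[P] algebraMap P D (algebraMap R P r)
    rw [Algebra.algebraMap_eq_smul_one (A := S₁), Algebra.algebraMap_eq_smul_one (A := D),
      TensorProduct.smul_tmul]
  let J' : Ideal S' := J.map (algebraMap S₁ S')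
  let C := S' ⧸ J'
  let jC : D →+* C := (Ideal.Quotient.mk J').comp iD
  letI : Algebra D C := jC.toAlgebra
  haveI : IsScalarTower R' D C := IsScalarTower.of_algebraMap_eq fun _ => rfl
  -- the module
  let N' := S' ⊗[S₁] N₁
  let f₂ : N₁ →ₗ[S₁] N' := TensorProduct.mk S₁ S' N₁ 1
  let f : N →ₗ[S] N' := (f₂.restrictScalars S).comp f₁
  have hf : IsBaseChange S' f := hf₁.comp (TensorProduct.isBaseChange S₁ N₁ S')
  have htor : Module.IsTorsionBySet S' N' (J' : Set S') := by
    intro m a
    have h1 : J' ≤ Module.annihilator S' N' := Ideal.map_le_iff_le_comap.mpr fun c hc => by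
      rw [Ideal.mem_comap, Module.mem_annihilator]
      intro t
      induction t using TensorProduct.induction_on with
      | zero => exact smul_zero _
      | add x y hx hy => rw [smul_add, hx, hy, add_zero]
      | tmul s m =>
        rw [TensorProduct.smul_tmul', smul_eq_mul, ← Algebra.smul_def, TensorProduct.smul_tmul,
          Module.mem_annihilator.mp (hJN hc), TensorProduct.tmul_zero]
    exact Module.mem_annihilator.mp (h1 a.2) m
  letI : Module C N' := htor.module
  haveI : IsScalarTower S' C N' := htor.isScalarTower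
  letI : Module D N' := Module.compHom N' jC
  haveI : IsScalarTower D C N' := IsScalarTower.of_algebraMap_smul fun _ _ => rfl
  letI : Module R' N' := Module.compHom N' (jC.comp (algebraMap R' D))
  haveI : IsScalarTower R' C N' := ⟨fun a c m => by
    show (algebraMap R' S' a • c) • m = jC (algebraMap R' D a) • c • m
    rw [smul_assoc]
    rfl⟩
  haveI : IsScalarTower R' D N' := IsScalarTower.of_algebraMap_smul fun _ _ => rfl
  haveI : Module.Finite S' N' := inferInstance
  haveI : Module.Finite C N' := Module.Finite.of_restrictScalars_finite S' C N'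
  -- the map from D ⊗ S₁/J
  let jS : S₁ ⧸ J →+* C := Ideal.Quotient.lift J ((Ideal.Quotient.mk J').comp (algebraMap S₁ S'))
    fun a ha => Ideal.Quotient.eq_zero_iff_mem.mpr (Ideal.mem_map_of_mem _ ha)
  let ρ : B →+* C := homTensor jC jS fun r => by
    show Ideal.Quotient.mk J' (algebraMap A S' ((1 : S₁) ⊗ₜ[P] algebraMap P D r)) =
      Ideal.Quotient.mk J' (algebraMap S₁ S' (algebraMap P S₁ r))
    rw [IsScalarTower.algebraMap_apply S₁ A S']
    refine congrArg _ (congrArg _ ?_)
    show (1 : S₁) ⊗ₜ[P] algebraMap P D r = (algebraMap P S₁ r) ⊗ₜ[P] (1 : D)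
    rw [Algebra.algebraMap_eq_smul_one (A := S₁), Algebra.algebraMap_eq_smul_one (A := D),
      TensorProduct.smul_tmul]
  have hρψ : ρ.comp ψ = (Ideal.Quotient.mk J').comp (algebraMap A S') := by
    refine homTensor_ext (fun a => ?_) fun d => ?_
    · rw [RingHom.comp_apply, hψl]
      show ρ ((1 : D) ⊗ₜ[P] Ideal.Quotient.mk J a) = _
      rw [homTensor_right]
      rfl
    · rw [RingHom.comp_apply, hψr, homTensor_left]
      rfl
  have hρe : ρ e = 1 := by
    refine (IsIdempotentElem.iff_eq_one_of_isUnit ?_).mp (he.map ρ)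
    rw [← hel, show ρ (ψ el) = _ from RingHom.congr_fun hρψ el]
    exact (IsLocalization.Away.algebraMap_isUnit el).map (Ideal.Quotient.mk J')
  have hρ : Function.Surjective ρ := by
    intro c
    obtain ⟨t, rfl⟩ := Ideal.Quotient.mk_surjective c
    obtain ⟨⟨a, ⟨_, k, rfl⟩⟩, h⟩ := IsLocalization.surj (Submonoid.powers el) t
    refine ⟨ψ a, ?_⟩
    rw [show ρ (ψ a) = _ from RingHom.congr_fun hρψ a, RingHom.comp_apply, ← h, map_mul, map_pow,
      map_pow, show Ideal.Quotient.mk J' (algebraMap A S' el) = ρ (ψ el) from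
        (RingHom.congr_fun hρψ el).symm, hel, hρe, one_pow, mul_one]
  haveI hDC : Module.Finite D C := by
    have hu : IsUnit (ρ e) := hρe ▸ isUnit_one
    let ρe : Localization.Away e →+* C := IsLocalization.Away.lift e hu
    let ρa : Localization.Away e →ₐ[D] C :=
      { toRingHom := ρe
        commutes' := fun d => by
          show ρe (algebraMap D (Localization.Away e) d) = jC d
          rw [IsScalarTower.algebraMap_apply D B (Localization.Away e)]
          refine (IsLocalization.Away.lift_eq e hu _).trans ?_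
          exact homTensor_left _ _ _ d }
    haveI := hfin
    refine Module.Finite.of_surjective ρa.toLinearMap fun c => ?_
    obtain ⟨b, rfl⟩ := hρ c
    exact ⟨algebraMap B (Localization.Away e) b, IsLocalization.Away.lift_eq e hu b⟩
  -- the points
  let κ := Q.ResidueField
  let qB : B →+* κ := algebraMap B κ
  have hqe : IsUnit ((qB.comp ψ) el) := by
    rw [RingHom.comp_apply, hel]
    exact IsUnit.mk0 _ fun h => heQ (Ideal.algebraMap_residueField_eq_zero.mp h)
  let qS : S' →+* κ := IsLocalization.Away.lift el hqe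
  have hqS : ∀ a : A, qS (algebraMap A S' a) = qB (ψ a) := fun a => IsLocalization.Away.lift_eq el hqe a
  have hqS₁ : ∀ a : S₁, qS (algebraMap S₁ S' a) = qB (iB a) := fun a => by
    rw [IsScalarTower.algebraMap_apply S₁ A S', hqS]
    exact congrArg qB (hψl a)
  have hqJ : J' ≤ RingHom.ker qS := Ideal.map_le_iff_le_comap.mpr fun a ha => by
    rw [Ideal.mem_comap, RingHom.mem_ker, hqS₁]
    show qB ((1 : D) ⊗ₜ[P] Ideal.Quotient.mk J a) = 0
    rw [Ideal.Quotient.eq_zero_iff_mem.mpr ha, TensorProduct.tmul_zero, map_zero]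
  let qC : C →+* κ := Ideal.Quotient.lift J' qS fun a ha => hqJ ha
  let z : Ideal C := RingHom.ker qC
  let q' : Ideal S' := RingHom.ker qS
  haveI : z.IsPrime := RingHom.ker_isPrime _
  haveI : q'.IsPrime := RingHom.ker_isPrime _
  have hqD : ∀ d : D, qS (iD d) = qB (d ⊗ₜ 1) := fun d => by
    show qS (algebraMap A S' ((1 : S₁) ⊗ₜ[P] d)) = _
    rw [hqS, hψr]
  have hzy : z.comap jC = y := by
    rw [← hQy]
    ext d
    simp only [z, Ideal.mem_comap, RingHom.mem_ker]
    show qS (iD d) = 0 ↔ _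
    rw [hqD, Ideal.algebraMap_residueField_eq_zero]
    rfl
  haveI : z.LiesOver y := ⟨hzy.symm⟩
  haveI : z.LiesOver q' := ⟨rfl⟩
  haveI : q'.LiesOver p' := ⟨by
    rw [y.over_def p', ← hzy]
    rfl⟩
  have hq'₁ : q'.comap (algebraMap S₁ S') = q₁ := by
    have h1 : q₁ = (q₁.map (Ideal.Quotient.mk J)).comap (Ideal.Quotient.mk J) := by
      rw [Ideal.comap_map_of_surjective _ Ideal.Quotient.mk_surjective, ← RingHom.ker_eq_comap_bot,
        Ideal.mk_ker, sup_eq_left.mpr hJq]
    rw [h1, ← hQq, Ideal.comap_comap]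
    ext a
    simp only [q', Ideal.mem_comap, RingHom.mem_ker, hqS₁]
    exact Ideal.algebraMap_residueField_eq_zero
  have hetS : FlatCA.IsEtaleNhd S S' q q' := by
    obtain ⟨hq, hfracS⟩ := isEtaleNhd_fracSurj hS₁
    haveI : Algebra.Etale S S₁ := hS₁.1
    haveI : Algebra.Etale A S' := Algebra.Etale.of_isLocalizationAway el
    haveI : Algebra.Etale S₁ S' := Algebra.Etale.comp S₁ A S'
    haveI : Algebra.Etale S S' := Algebra.Etale.comp S S₁ S'
    haveI : (q'.comap (algebraMap A S')).IsPrime := Ideal.IsPrime.comap _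
    refine isEtaleNhd_of_fracSurj ?_ ?_
    · rw [IsScalarTower.algebraMap_eq S S₁ S', ← Ideal.comap_comap, hq'₁]
      exact hq
    · rw [IsScalarTower.algebraMap_eq S S₁ S']
      refine FracSurj.comp ?_ (hq'₁.symm ▸ hfracS)
      rw [IsScalarTower.algebraMap_eq S₁ A S']
      refine (fracSurj_of_isLocalization (Submonoid.powers el) S' q').comp ?_
      refine fracSurj_of_generated (algebraMap P D) (algebraMap P S₁)
        (Algebra.TensorProduct.includeRight (R := P) (A := S₁) (B := D)).toRingHom (algebraMap S₁ A)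
        (RingHom.ext fun r => ?_) ?_ _ ?_
      · show (1 : S₁) ⊗ₜ[P] algebraMap P D r = (algebraMap P S₁ r) ⊗ₜ[P] (1 : D)
        rw [Algebra.algebraMap_eq_smul_one (A := S₁), Algebra.algebraMap_eq_smul_one (A := D),
          TensorProduct.smul_tmul]
      · rw [Set.union_comm]
        exact closure_range_tensor P S₁ D
      · have h2 : (q'.comap (algebraMap A S')).comap
            (Algebra.TensorProduct.includeRight (R := P) (A := S₁) (B := D)).toRingHom = y := by
          rw [← hzy]
          rfl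
        rwa [h2]
  have hzuniq : ∀ (z₁ : Ideal C) [z₁.IsPrime], z₁.LiesOver y → z₁ = z := by
    intro z₁ _ hz₁
    have key : ∀ (w : Ideal C), w.IsPrime → w.comap jC = y → w.comap ρ = Q := by
      intro w hw hwy
      refine huniq _ (Ideal.IsPrime.comap _) ?_ fun h => hw.one_notMem (hρe ▸ h)
      rw [Ideal.comap_comap, ← hwy]
      congr 1
      refine RingHom.ext fun d => ?_
      show ρ (d ⊗ₜ[P] 1) = jC d
      rw [homTensor_left]
    exact Ideal.comap_injective_of_surjective ρ hρ
      ((key z₁ ‹_› hz₁.over.symm).trans (key z ‹_› hzy).symm)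
  exact ⟨{
    R' := R', S' := S', C := C, D := D, N' := N', G := N'
    p' := p', q' := q', z := z, y := y
    etaleR := hR', etaleS := hetS
    f := f, isBaseChange := hf
    surjC := Ideal.Quotient.mk_surjective
    fpC := Algebra.FinitePresentation.quotient (hJfg.map _)
    iso := LinearEquiv.refl S' N'
    finiteDC := hDC
    finiteG := inferInstance
    uniq := fun z₁ _ h => hzuniq z₁ h
    pureTrans := hpt
    smooth := hsm
    geomInt := hgi }⟩

end Groth.Agent.H7Flat.ElemDev
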