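import Groth.Agent.H7Flat.ElemDev.Residue
import Groth.Agent.S4619
import Groth.Agent.H21Taylor.GeomInt
import Mathlib

/-!
# A connected algebra with a point in whose residue field the base field is algebraically closed
-/

set_option autoImplicit false
set_option linter.style.haveILetI false
set_option backward.isDefEq.respectTransparency false

universe u

open TensorProduct AlgebraicGeometry CategoryTheory Limits

namespace Groth.Agent.H7Flat.ElemDev

/-- The pullback of affine schemes over the spectrum of a field, as a topological space. -/
theorem connectedSpace_tensor_of_algClosed {k A : Type u} [Field k] [CommRing A] [Algebra k A]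
    [ConnectedSpace (PrimeSpectrum A)] (x : PrimeSpectrum A)
    (hx : ∀ a : x.asIdeal.ResidueField, IsIntegral k a →
      a ∈ (algebraMap k x.asIdeal.ResidueField).range)
    (K : Type u) [Field K] [Algebra k K] : ConnectedSpace (PrimeSpectrum (K ⊗[k] A)) := by
  let X := Spec (CommRingCat.of A)
  let f : X ⟶ Spec (CommRingCat.of k) := Spec.map (CommRingCat.ofHom (algebraMap k A))
  haveI : ConnectedSpace X := ‹ConnectedSpace (PrimeSpectrum A)›
  let E := (Scheme.Spec.residueFieldIso (CommRingCat.of A) x).commRingCatIsoToRingEquiv
  let φ : k →+* X.residueField x := E.symm.toRingHom.comp (algebraMap k x.asIdeal.ResidueField)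
  have hprop : FBase.ResidueFieldProp f x (fun K _ _ => separableClosure k K = ⊥) := by
    refine ⟨φ, ?_, ?_⟩
    · rw [← Scheme.Spec.map_residueFieldIso_inv_eq_fromSpecResidueField, Category.assoc,
        ← Spec.map_comp, ← Spec.map_comp]
      congr 1
    · letI := φ.toAlgebra
      refine eq_bot_iff.mpr fun a ha => ?_
      have hint : IsIntegral k a := (mem_separableClosure_iff.mp ha).isIntegral
      have hint' : IsIntegral k (E a) := by
        obtain ⟨P, hP, hPa⟩ := hint
        refine ⟨P, hP, ?_⟩
        have h2 := congrArg E hPa
        rw [map_zero] at h2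
        rw [← h2]
        refine Eq.trans ?_ (Polynomial.hom_eval₂ P (algebraMap k (X.residueField x)) E.toRingHom a).symm
        congr 1
        refine RingHom.ext fun c => ?_
        show algebraMap k x.asIdeal.ResidueField c = E (φ c)
        exact (E.apply_symm_apply _).symm
      obtain ⟨c, hc⟩ := hx _ hint'
      exact IntermediateField.mem_bot.mpr ⟨c, E.injective (by
        show E (φ c) = E a
        rw [← hc]; exact E.apply_symm_apply _)⟩
  haveI hg : GeometricallyConnected f := Groth.Agent.S4619.result f x hprop
  have h := GeometricallyConnected.geometrically_connectedSpace (f := f)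
    (Spec.map (CommRingCat.ofHom (algebraMap k K))) _ _
    (IsPullback.of_hasPullback f (Spec.map (CommRingCat.ofHom (algebraMap k K))))
  have h' : ConnectedSpace (Spec (CommRingCat.of (A ⊗[k] K))) :=
    (pullbackSpecIso k A K).hom.homeomorph.connectedSpace_iff.mp h
  exact (PrimeSpectrum.homeomorphOfRingEquiv
    (Algebra.TensorProduct.comm k A K).toRingEquiv).connectedSpace_iff.mp h'

/-- The spectrum of a connected smooth algebra over a field is irreducible. -/
theorem irreducibleSpace_of_smooth {k A : Type u} [Field k] [CommRing A] [Algebra k A]
    [Algebra.Smooth k A] [ConnectedSpace (PrimeSpectrum A)] : IrreducibleSpace (PrimeSpectrum A) := by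
  let f : Spec (CommRingCat.of A) ⟶ Spec (CommRingCat.of k) :=
    Spec.map (CommRingCat.ofHom (algebraMap k A))
  haveI : Smooth f := (HasRingHomProperty.Spec_iff (P := @Smooth)).mpr
    (RingHom.smooth_algebraMap.mpr ‹Algebra.Smooth k A›)
  haveI : IsLocallyNoetherian (Spec (CommRingCat.of A)) := LocallyOfFiniteType.isLocallyNoetherian f
  haveI : ConnectedSpace (Spec (CommRingCat.of A)) := ‹ConnectedSpace (PrimeSpectrum A)›
  exact H21Taylor.irreducibleSpace_of_connected_of_domain_stalks (Spec (CommRingCat.of A)) fun t => by
    haveI := H19Grp.isRegularLocalRing_stalk_of_smooth f t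
    exact H4Depth.isDomain_of_isRegularLocalRing _

end Groth.Agent.H7Flat.ElemDev
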