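import Mathlib

/-!
# Ring homomorphisms out of tensor products given on the two factors
-/

set_option autoImplicit false
set_option linter.style.haveILetI false

universe u

open TensorProduct

namespace Groth.Agent.H7Flat.ElemDev

section

variable {R A B T : Type*} [CommRing R] [CommRing A] [CommRing B] [CommRing T] [Algebra R A]
  [Algebra R B] (fA : A →+* T) (fB : B →+* T)
  (h : ∀ r, fA (algebraMap R A r) = fB (algebraMap R B r))

/-- The ring homomorphism out of a tensor product given by compatible homomorphisms on the factors. -/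
noncomputable def homTensor : A ⊗[R] B →+* T :=
  letI : Algebra R T := (fA.comp (algebraMap R A)).toAlgebra
  (Algebra.TensorProduct.lift ({ toRingHom := fA, commutes' := fun _ => rfl } : A →ₐ[R] T)
    ({ toRingHom := fB, commutes' := fun r => (h r).symm } : B →ₐ[R] T) fun _ _ => .all _ _).toRingHom

theorem homTensor_tmul (a : A) (b : B) : homTensor fA fB h (a ⊗ₜ b) = fA a * fB b := rfl

theorem homTensor_left (a : A) : homTensor fA fB h (a ⊗ₜ 1) = fA a := by
  rw [homTensor_tmul, map_one, mul_one]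

theorem homTensor_right (b : B) : homTensor fA fB h (1 ⊗ₜ b) = fB b := by
  rw [homTensor_tmul, map_one, one_mul]

theorem homTensor_ext {φ ψ : A ⊗[R] B →+* T} (hA : ∀ a, φ (a ⊗ₜ 1) = ψ (a ⊗ₜ 1))
    (hB : ∀ b, φ (1 ⊗ₜ b) = ψ (1 ⊗ₜ b)) : φ = ψ := by
  refine RingHom.ext fun t => ?_
  induction t using TensorProduct.induction_on with
  | zero => simp
  | add a b ha hb => simp [ha, hb]
  | tmul a b =>
    have e : a ⊗ₜ[R] b = (a ⊗ₜ[R] (1 : B)) * ((1 : A) ⊗ₜ[R] b) := by simp
    rw [e, map_mul, map_mul, hA, hB]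

end

/-- A homomorphism out of a base change of a localisation of a base change. -/
theorem exists_hom_away {R R₂ D K T : Type*} [CommRing R] [CommRing R₂] [CommRing D] [CommRing K]
    [CommRing T] [Algebra R R₂] [Algebra R D] [Algebra R₂ K] (b : R₂ ⊗[R] D) (fK : K →+* T)
    (fD : D →+* T)
    (hc : ∀ r, (fK.comp (algebraMap R₂ K)) (algebraMap R R₂ r) = fD (algebraMap R D r))
    (hb : IsUnit (homTensor (fK.comp (algebraMap R₂ K)) fD hc b)) :
    ∃ Φ : K ⊗[R₂] Localization.Away b →+* T, (∀ k, Φ (k ⊗ₜ 1) = fK k) ∧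
      ∀ d, Φ (1 ⊗ₜ algebraMap (R₂ ⊗[R] D) (Localization.Away b) (1 ⊗ₜ d)) = fD d := by
  let f2 : Localization.Away b →+* T := IsLocalization.Away.lift b hb
  have h2 : ∀ x, f2 (algebraMap (R₂ ⊗[R] D) (Localization.Away b) x) =
      homTensor (fK.comp (algebraMap R₂ K)) fD hc x := fun x => IsLocalization.Away.lift_eq b hb x
  have hc2 : ∀ r, fK (algebraMap R₂ K r) = f2 (algebraMap R₂ (Localization.Away b) r) := by
    intro r
    rw [IsScalarTower.algebraMap_apply R₂ (R₂ ⊗[R] D) (Localization.Away b), h2]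
    exact (homTensor_left (fK.comp (algebraMap R₂ K)) fD hc r).symm
  refine ⟨homTensor fK f2 hc2, homTensor_left fK f2 hc2, fun d => ?_⟩
  rw [homTensor_right, h2, homTensor_right]

end Groth.Agent.H7Flat.ElemDev
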