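import Groth.Agent.H7Flat.ElemDev.GeomNbhd
import Groth.Agent.H7Flat.ElemDev.HomTensor
import Mathlib

/-!
# Geometrically irreducible fibres after an elementary etale localisation: the main result
-/

set_option autoImplicit false
set_option linter.style.haveILetI false
set_option backward.isDefEq.respectTransparency false
set_option maxHeartbeats 1000000

universe u

open TensorProduct

namespace Groth.Agent.H7Flat.ElemDev

/-- The base change of a basic open contained in the components of the section is irreducible over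
every field. -/
theorem irreducibleSpace_tensor_away {R R₁ R₂ W D K : Type u} [CommRing R] [CommRing R₁] [CommRing R₂]
    [CommRing W] [CommRing D] [Field K] [Algebra R R₁] [Algebra R R₂] [Algebra R₁ R₂]
    [IsScalarTower R R₁ R₂] [Algebra R W] [Algebra R₁ W] [IsScalarTower R R₁ W] [Algebra R D]
    [Algebra.Smooth R D] [Algebra R₂ K] (σ : D →ₐ[R] W) (h : R₁ ⊗[R] D)
    (hU : ∀ P : PrimeSpectrum (W ⊗[R] D),
      (Algebra.TensorProduct.map (IsScalarTower.toAlgHom R R₁ W) (AlgHom.id R D)) h ∉ P.asIdeal →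
        P ∈ compSet (Algebra.TensorProduct.lift (AlgHom.id W W) σ fun _ _ => .all _ _))
    (w : PrimeSpectrum W)
    (hw : w.asIdeal.comap (algebraMap R₁ W) =
      RingHom.ker ((algebraMap R₂ K).comp (algebraMap R₁ R₂)))
    (x : PrimeSpectrum (R₁ ⊗[R] D)) (hxh : h ∉ x.asIdeal)
    (hx : x.asIdeal.comap (Algebra.TensorProduct.includeLeftRingHom : R₁ →+* R₁ ⊗[R] D) =
      RingHom.ker ((algebraMap R₂ K).comp (algebraMap R₁ R₂))) :
    IrreducibleSpace (PrimeSpectrum (K ⊗[R₂] Localization.Away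
      ((Algebra.TensorProduct.map (IsScalarTower.toAlgHom R R₁ R₂) (AlgHom.id R D)) h))) := by
  let φ := Algebra.TensorProduct.map (IsScalarTower.toAlgHom R R₁ W) (AlgHom.id R D)
  let ψ := Algebra.TensorProduct.map (IsScalarTower.toAlgHom R R₁ R₂) (AlgHom.id R D)
  let D₂ := Localization.Away (ψ h)
  let χ₁ := (algebraMap R₂ K).comp (algebraMap R₁ R₂)
  -- the compositum L
  obtain ⟨L, _, bK, bW, hb⟩ := exists_compositum χ₁
    ((algebraMap W w.asIdeal.ResidueField).comp (algebraMap R₁ W)) (hw.symm.trans (by rw [← RingHom.comap_ker, Ideal.ker_algebraMap_residueField]))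
  letI : Algebra W L := (bW.comp (algebraMap W w.asIdeal.ResidueField)).toAlgebra
  obtain ⟨Z, hZ, hZmem⟩ := exists_irreducible
    (Algebra.TensorProduct.lift (AlgHom.id W W) σ fun _ _ => .all _ _ : W ⊗[R] D →ₐ[W] W) L
  let Λ := L ⊗[W] (W ⊗[R] D)
  let ι : W ⊗[R] D →+* Λ :=
    (Algebra.TensorProduct.includeRight (R := W) (A := L) (B := W ⊗[R] D)).toRingHom
  let hΛ : Λ := ι (φ h)
  let U : Set (PrimeSpectrum Λ) := PrimeSpectrum.basicOpen hΛ
  have hUZ : U ⊆ Z := fun P hP => hZmem P (hU _ hP)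
  let Λh := Localization.Away hΛ
  let jΛ : Λ →+* Λh := algebraMap Λ Λh
  have hR₁ : ∀ r : R₁, (Algebra.TensorProduct.includeLeftRingHom : L →+* Λ) (bK (χ₁ r)) =
      ι ((algebraMap R₁ W r) ⊗ₜ 1) := by
    intro r
    rw [show bK (χ₁ r) = algebraMap W L (algebraMap R₁ W r) from RingHom.congr_fun hb r]
    show algebraMap W L (algebraMap R₁ W r) ⊗ₜ[W] (1 : W ⊗[R] D) =
      (1 : L) ⊗ₜ[W] ((algebraMap R₁ W r) ⊗ₜ 1)
    generalize algebraMap R₁ W r = a
    rw [Algebra.algebraMap_eq_smul_one, TensorProduct.smul_tmul, ← Algebra.algebraMap_eq_smul_one]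
    rfl
  let fK : K →+* Λh := jΛ.comp ((Algebra.TensorProduct.includeLeftRingHom : L →+* Λ).comp bK)
  let fD : D →+* Λh := jΛ.comp (ι.comp
    (Algebra.TensorProduct.includeRight (R := R) (A := W) (B := D)).toRingHom)
  have hc : ∀ r, (fK.comp (algebraMap R₂ K)) (algebraMap R R₂ r) = fD (algebraMap R D r) := by
    intro r
    refine congrArg jΛ ?_
    show (Algebra.TensorProduct.includeLeftRingHom : L →+* Λ) (bK (algebraMap R₂ K (algebraMap R R₂ r))) =
      ι ((1 : W) ⊗ₜ algebraMap R D r)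
    rw [IsScalarTower.algebraMap_apply R R₁ R₂]
    rw [show bK (algebraMap R₂ K (algebraMap R₁ R₂ (algebraMap R R₁ r))) = bK (χ₁ (algebraMap R R₁ r))
      from rfl, hR₁, ← IsScalarTower.algebraMap_apply]
    congr 1
    rw [Algebra.algebraMap_eq_smul_one, Algebra.algebraMap_eq_smul_one, TensorProduct.smul_tmul]
  have hψ : (homTensor (fK.comp (algebraMap R₂ K)) fD hc).comp ψ.toRingHom =
      jΛ.comp (ι.comp φ.toRingHom) := by
    refine homTensor_ext (fun a => ?_) fun d => ?_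
    · show homTensor (fK.comp (algebraMap R₂ K)) fD hc (ψ (a ⊗ₜ 1)) = jΛ (ι (φ (a ⊗ₜ 1)))
      rw [Algebra.TensorProduct.map_tmul, Algebra.TensorProduct.map_tmul, map_one, homTensor_left]
      exact congrArg jΛ (hR₁ a)
    · show homTensor (fK.comp (algebraMap R₂ K)) fD hc (ψ (1 ⊗ₜ d)) = jΛ (ι (φ (1 ⊗ₜ d)))
      rw [Algebra.TensorProduct.map_tmul, Algebra.TensorProduct.map_tmul, map_one, map_one,
        homTensor_right]
      rfl
  obtain ⟨Δ, hΔK, hΔD⟩ := exists_hom_away (ψ h) fK fD hc (by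
    rw [show homTensor (fK.comp (algebraMap R₂ K)) fD hc (ψ h) = jΛ hΛ from RingHom.congr_fun hψ h]
    exact IsLocalization.Away.algebraMap_isUnit hΛ)
  have hgen : Subring.closure (Set.range (algebraMap R₂ (R₂ ⊗[R] D)) ∪
      Set.range (Algebra.TensorProduct.includeRight (R := R) (A := R₂) (B := D)).toRingHom) = ⊤ :=
    closure_range_tensor R R₂ D
  -- every prime downstairs comes from upstairs
  have hsurj : ∀ Q : PrimeSpectrum (K ⊗[R₂] D₂), ∃ Q' : PrimeSpectrum Λh, PrimeSpectrum.comap Δ Q' = Q := by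
    intro Q
    let qh : K ⊗[R₂] D₂ →+* Q.asIdeal.ResidueField := algebraMap _ _
    let qK : K →+* Q.asIdeal.ResidueField :=
      qh.comp (Algebra.TensorProduct.includeLeftRingHom : K →+* K ⊗[R₂] D₂)
    obtain ⟨F, _, c₁, c₂, hc₁₂⟩ := exists_compositum bK qK
      (((RingHom.injective_iff_ker_eq_bot _).mp bK.injective).trans
        ((RingHom.injective_iff_ker_eq_bot _).mp qK.injective).symm)
    let eD : D →+* K ⊗[R₂] D₂ :=
      ((Algebra.TensorProduct.includeRight (R := R₂) (A := K) (B := D₂)).toRingHom.comp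
        (algebraMap (R₂ ⊗[R] D) D₂)).comp
          (Algebra.TensorProduct.includeRight (R := R) (A := R₂) (B := D)).toRingHom
    have hKD : ∀ r : R₂, (algebraMap R₂ K r) ⊗ₜ[R₂] (1 : D₂) =
        (1 : K) ⊗ₜ[R₂] algebraMap (R₂ ⊗[R] D) D₂ (r ⊗ₜ 1) := by
      intro r
      rw [Algebra.algebraMap_eq_smul_one, TensorProduct.smul_tmul, ← Algebra.algebraMap_eq_smul_one,
        IsScalarTower.algebraMap_apply R₂ (R₂ ⊗[R] D) D₂]
      rfl
    let gW : W →+* F := c₁.comp (algebraMap W L)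
    have hgW : ∀ r : R₁, gW (algebraMap R₁ W r) = c₂ (qK (χ₁ r)) := by
      intro r
      show c₁ (algebraMap W L (algebraMap R₁ W r)) = _
      rw [show algebraMap W L (algebraMap R₁ W r) = bK (χ₁ r) from (RingHom.congr_fun hb r).symm]
      exact RingHom.congr_fun hc₁₂ _
    let gD : D →+* F := c₂.comp (qh.comp eD)
    have hgWD : ∀ r, gW (algebraMap R W r) = gD (algebraMap R D r) := by
      intro r
      rw [IsScalarTower.algebraMap_apply R R₁ W, hgW]
      refine congrArg c₂ (congrArg qh ?_)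
      show (algebraMap R₂ K (algebraMap R₁ R₂ (algebraMap R R₁ r))) ⊗ₜ[R₂] (1 : D₂) =
        (1 : K) ⊗ₜ[R₂] algebraMap (R₂ ⊗[R] D) D₂ ((1 : R₂) ⊗ₜ algebraMap R D r)
      rw [hKD, ← IsScalarTower.algebraMap_apply]
      congr 2
      rw [Algebra.algebraMap_eq_smul_one, Algebra.algebraMap_eq_smul_one, TensorProduct.smul_tmul]
    let β : W ⊗[R] D →+* F := homTensor gW gD hgWD
    have hβ : ∀ a : W, c₁ (algebraMap W L a) = β (algebraMap W (W ⊗[R] D) a) := fun a =>
      (homTensor_left gW gD hgWD a).symm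
    let γ : Λ →+* F := homTensor c₁ β hβ
    have hγ : γ.comp (ι.comp φ.toRingHom) = (c₂.comp qh).comp
        (((Algebra.TensorProduct.includeRight (R := R₂) (A := K) (B := D₂)).toRingHom.comp
          (algebraMap (R₂ ⊗[R] D) D₂)).comp ψ.toRingHom) := by
      refine homTensor_ext (fun a => ?_) fun d => ?_
      · show γ (ι (φ (a ⊗ₜ 1))) =
          c₂ (qh ((1 : K) ⊗ₜ[R₂] algebraMap (R₂ ⊗[R] D) D₂ (ψ (a ⊗ₜ 1))))
        rw [Algebra.TensorProduct.map_tmul, Algebra.TensorProduct.map_tmul, map_one]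
        refine (homTensor_right c₁ β hβ _).trans ((homTensor_left gW gD hgWD _).trans ((hgW a).trans ?_))
        exact congrArg c₂ (congrArg qh (hKD _))
      · show γ (ι (φ (1 ⊗ₜ d))) =
          c₂ (qh ((1 : K) ⊗ₜ[R₂] algebraMap (R₂ ⊗[R] D) D₂ (ψ (1 ⊗ₜ d))))
        rw [Algebra.TensorProduct.map_tmul, Algebra.TensorProduct.map_tmul, map_one, map_one]
        exact (homTensor_right c₁ β hβ _).trans (homTensor_right gW gD hgWD _)
    have hunit : IsUnit (γ hΛ) := by
      rw [show γ hΛ = _ from RingHom.congr_fun hγ h]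
      exact ((IsLocalization.Away.algebraMap_isUnit (S := D₂) (ψ h)).map
        (Algebra.TensorProduct.includeRight (R := R₂) (A := K) (B := D₂)).toRingHom).map (c₂.comp qh)
    let γh : Λh →+* F := IsLocalization.Away.lift hΛ hunit
    refine ⟨⟨RingHom.ker γh, RingHom.ker_isPrime _⟩, PrimeSpectrum.ext ?_⟩
    show (RingHom.ker γh).comap Δ = Q.asIdeal
    rw [RingHom.comap_ker]
    have heq : γh.comp Δ = c₂.comp qh := by
      letI : Algebra D (R₂ ⊗[R] D) :=
        (Algebra.TensorProduct.includeRight (R := R) (A := R₂) (B := D)).toRingHom.toAlgebra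
      refine hom_ext_tensor_away (R := R) (R₁ := R₁) (D := D) (B := R₂ ⊗[R] D) hgen
        (Submonoid.powers (ψ h)) (fun k => ?_) fun d => ?_
      · show γh (Δ (k ⊗ₜ 1)) = c₂ (qK k)
        rw [hΔK]
        refine (IsLocalization.Away.lift_eq hΛ hunit _).trans ?_
        exact (homTensor_left c₁ β hβ _).trans (RingHom.congr_fun hc₁₂ k)
      · show γh (Δ ((1 : K) ⊗ₜ algebraMap (R₂ ⊗[R] D) D₂ ((1 : R₂) ⊗ₜ d))) = gD d
        rw [hΔD]
        refine (IsLocalization.Away.lift_eq hΛ hunit _).trans ?_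
        exact (homTensor_right c₁ β hβ _).trans (homTensor_right gW gD hgWD _)
    rw [heq, RingHom.ker_comp_of_injective _ c₂.injective]
    exact Ideal.ker_algebraMap_residueField _
  -- nonemptiness downstairs
  haveI hne : Nonempty (PrimeSpectrum (K ⊗[R₂] D₂)) := by
    let qx : R₁ ⊗[R] D →+* x.asIdeal.ResidueField := algebraMap _ _
    obtain ⟨F, _, c₁, c₂, hc₁₂⟩ := exists_compositum χ₁
      (qx.comp (Algebra.TensorProduct.includeLeftRingHom : R₁ →+* R₁ ⊗[R] D)) (hx.symm.trans (by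
        rw [← RingHom.comap_ker, Ideal.ker_algebraMap_residueField]))
    let gD : D →+* F := c₂.comp (qx.comp
      (Algebra.TensorProduct.includeRight (R := R) (A := R₁) (B := D)).toRingHom)
    have hgc : ∀ r, (c₁.comp (algebraMap R₂ K)) (algebraMap R R₂ r) = gD (algebraMap R D r) := by
      intro r
      rw [IsScalarTower.algebraMap_apply R R₁ R₂]
      refine (RingHom.congr_fun hc₁₂ (algebraMap R R₁ r)).trans (congrArg c₂ (congrArg qx ?_))
      show (algebraMap R R₁ r) ⊗ₜ[R] (1 : D) = (1 : R₁) ⊗ₜ[R] algebraMap R D r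
      rw [Algebra.algebraMap_eq_smul_one, Algebra.algebraMap_eq_smul_one, TensorProduct.smul_tmul]
    have hψ' : (homTensor (c₁.comp (algebraMap R₂ K)) gD hgc).comp ψ.toRingHom = c₂.comp qx := by
      refine homTensor_ext (fun a => ?_) fun d => ?_
      · show homTensor (c₁.comp (algebraMap R₂ K)) gD hgc (ψ (a ⊗ₜ 1)) = c₂ (qx (a ⊗ₜ 1))
        rw [Algebra.TensorProduct.map_tmul, map_one, homTensor_left]
        exact RingHom.congr_fun hc₁₂ a
      · show homTensor (c₁.comp (algebraMap R₂ K)) gD hgc (ψ (1 ⊗ₜ d)) = c₂ (qx (1 ⊗ₜ d))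
        rw [Algebra.TensorProduct.map_tmul, map_one, homTensor_right]
        rfl
    obtain ⟨Φ, -⟩ := exists_hom_away (ψ h) c₁ gD hgc (by
      rw [show homTensor (c₁.comp (algebraMap R₂ K)) gD hgc (ψ h) = c₂ (qx h) from
        RingHom.congr_fun hψ' h]
      exact (IsUnit.mk0 _ fun h0 => hxh (Ideal.algebraMap_residueField_eq_zero.mp h0)).map c₂)
    exact ⟨⟨RingHom.ker Φ, RingHom.ker_isPrime _⟩⟩
  haveI : IrreducibleSpace (PrimeSpectrum Λh) := by
    obtain ⟨Q⟩ := hne
    obtain ⟨Q', -⟩ := hsurj Q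
    have hemb : Topology.IsOpenEmbedding (PrimeSpectrum.comap (algebraMap Λ Λh)) :=
      PrimeSpectrum.localization_away_isOpenEmbedding Λh hΛ
    have hrange : Set.range (PrimeSpectrum.comap (algebraMap Λ Λh)) = U :=
      PrimeSpectrum.localization_away_comap_range Λh hΛ
    haveI : PreirreducibleSpace (PrimeSpectrum Λh) := by
      refine ⟨fun a b ha hb hna hnb => ?_⟩
      obtain ⟨a₀, -, ha₀⟩ := hna
      obtain ⟨b₀, -, hb₀⟩ := hnb
      obtain ⟨z, -, ⟨a', ha', rfl⟩, ⟨b', hb', hab⟩⟩ := hZ.2 _ _ (hemb.isOpenMap a ha) (hemb.isOpenMap b hb)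
        ⟨_, hUZ (hrange ▸ ⟨a₀, rfl⟩), ⟨a₀, ha₀, rfl⟩⟩ ⟨_, hUZ (hrange ▸ ⟨b₀, rfl⟩), ⟨b₀, hb₀, rfl⟩⟩
      obtain rfl := hemb.injective hab
      exact ⟨_, trivial, ha', hb'⟩
    exact ⟨⟨Q'⟩⟩
  rw [irreducibleSpace_def, Set.top_eq_univ, ← Set.range_eq_univ.mpr hsurj, ← Set.image_univ]
  exact (Set.top_eq_univ ▸ (irreducibleSpace_def _ |>.mp inferInstance)).image _ (PrimeSpectrum.continuous_comap _).continuousOn

/-- Geometrically irreducible fibres after an elementary etale localisation. -/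
theorem exists_geomIrred_nbhd {R D : Type u} [CommRing R] [CommRing D] [Algebra R D]
    [Algebra.Smooth R D] (p : Ideal R) [p.IsPrime] (y : Ideal D) [y.IsPrime] [y.LiesOver p]
    (hconn : ∀ (K : Type u) [Field K] [Algebra p.ResidueField K],
      ConnectedSpace (PrimeSpectrum (K ⊗[p.ResidueField] p.Fiber D))) :
    ∃ (R₂ : Type u) (_ : CommRing R₂) (_ : Algebra R R₂) (p₂ : Ideal R₂) (_ : p₂.IsPrime)
      (y₂ : Ideal (R₂ ⊗[R] D)) (_ : y₂.IsPrime) (h : R₂ ⊗[R] D),
      FlatCA.IsEtaleNhd R R₂ p p₂ ∧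
      y₂.comap (Algebra.TensorProduct.includeLeftRingHom : R₂ →+* R₂ ⊗[R] D) = p₂ ∧
      y₂.comap (Algebra.TensorProduct.includeRight (R := R) (A := R₂) (B := D)).toRingHom = y ∧
      h ∉ y₂ ∧ FlatCA.GeomIrredFibres R₂ (Localization.Away h) := by
  obtain ⟨R₁, _, _, P, _, W, _, _, _, _, w, σ, hnhd, hfin, het, hwP, huniq⟩ :=
    exists_finite_etale_section p y
  obtain ⟨hp, hfrac⟩ := isEtaleNhd_fracSurj hnhd
  haveI : Algebra.Etale R R₁ := hnhd.1
  let σW : W ⊗[R] D →ₐ[W] W := Algebra.TensorProduct.lift (AlgHom.id W W) σ fun _ _ => .all _ _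
  let φ := Algebra.TensorProduct.map (IsScalarTower.toAlgHom R R₁ W) (AlgHom.id R D)
  let img := PrimeSpectrum.comap φ.toRingHom '' (compSet σW)ᶜ
  have himg : IsClosed img := isClosedMap_comap_map _ (isOpen_compSet σW).isClosed_compl
  obtain ⟨y₁, hy₁, hy₁P, hy₁y⟩ := exists_prime_tensor P y ((y.over_def p).symm.trans hp) hfrac
  -- the fibre over w is preconnected
  have hpre : IsPreconnected (PrimeSpectrum.comap (algebraMap W (W ⊗[R] D)) ⁻¹' {w}) := by
    have hwp : p = w.asIdeal.comap (algebraMap R W) := by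
      rw [IsScalarTower.algebraMap_eq R R₁ W, ← Ideal.comap_comap, hwP]
      exact hp
    letI : Algebra p.ResidueField w.asIdeal.ResidueField :=
      (Ideal.ResidueField.mapₐ p w.asIdeal (Algebra.ofId R W) hwp).toRingHom.toAlgebra
    haveI : IsScalarTower R p.ResidueField w.asIdeal.ResidueField :=
      IsScalarTower.of_algebraMap_eq fun c =>
        ((Ideal.ResidueField.mapₐ p w.asIdeal (Algebra.ofId R W) hwp).commutes c).symm
    let e : w.asIdeal.ResidueField ⊗[W] (W ⊗[R] D) ≃+*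
        w.asIdeal.ResidueField ⊗[p.ResidueField] p.Fiber D :=
      (Algebra.TensorProduct.cancelBaseChange R W w.asIdeal.ResidueField w.asIdeal.ResidueField D).toRingEquiv.trans
        (Algebra.TensorProduct.cancelBaseChange R p.ResidueField w.asIdeal.ResidueField
          w.asIdeal.ResidueField D).symm.toRingEquiv
    haveI : ConnectedSpace (PrimeSpectrum (w.asIdeal.Fiber (W ⊗[R] D))) :=
      (PrimeSpectrum.homeomorphOfRingEquiv e).connectedSpace_iff.mpr (hconn w.asIdeal.ResidueField)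
    exact (isConnected_iff_connectedSpace.mpr
      ((PrimeSpectrum.preimageHomeomorphFiber W (W ⊗[R] D) w).connectedSpace_iff.mpr inferInstance)).isPreconnected
  have hy₁img : (⟨y₁, hy₁⟩ : PrimeSpectrum (R₁ ⊗[R] D)) ∉ img := by
    rintro ⟨Q, hQ, hQy⟩
    refine hQ ?_
    let f := AlgebraicGeometry.Spec.map (CommRingCat.ofHom (algebraMap W (W ⊗[R] D)))
    have hQw : PrimeSpectrum.comap (algebraMap W (W ⊗[R] D)) Q = w := by
      refine huniq _ ?_
      show (Q.asIdeal.comap (algebraMap W (W ⊗[R] D))).comap (algebraMap R₁ W) = P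
      rw [← hy₁P, ← show Q.asIdeal.comap φ.toRingHom = y₁ from congrArg PrimeSpectrum.asIdeal hQy,
        Ideal.comap_comap, Ideal.comap_comap]
      congr 1
    show Q ∈ connectedComponentIn (PrimeSpectrum.comap (algebraMap W (W ⊗[R] D)) ⁻¹'
        {PrimeSpectrum.comap (algebraMap W (W ⊗[R] D)) Q})
      (PrimeSpectrum.comap σW.toRingHom (PrimeSpectrum.comap (algebraMap W (W ⊗[R] D)) Q))
    rw [hQw]
    refine hpre.subset_connectedComponentIn ?_ (le_refl _) hQw
    show PrimeSpectrum.comap (algebraMap W (W ⊗[R] D)) (PrimeSpectrum.comap σW.toRingHom w) = w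
    rw [← PrimeSpectrum.comap_comp_apply,
      show σW.toRingHom.comp (algebraMap W (W ⊗[R] D)) = RingHom.id W from RingHom.ext σW.commutes]
    rfl
  obtain ⟨_, ⟨h, rfl⟩, hhy, hhU⟩ := (PrimeSpectrum.isTopologicalBasis_basic_opens
    (R := R₁ ⊗[R] D)).exists_subset_of_mem_open hy₁img himg.isOpen_compl
  -- shrink the base
  haveI : Algebra.Smooth R₁ W := inferInstance
  haveI : Module.Flat R₁ W := inferInstance
  haveI : Module.Flat R D := inferInstance
  let O : Set (PrimeSpectrum R₁) :=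
    PrimeSpectrum.comap (algebraMap R₁ (R₁ ⊗[R] D)) '' (PrimeSpectrum.basicOpen h) ∩
      Set.range (PrimeSpectrum.comap (algebraMap R₁ W))
  have hO : IsOpen O :=
    (PrimeSpectrum.isOpenMap_comap_of_hasGoingDown_of_finitePresentation _
      (PrimeSpectrum.basicOpen h).isOpen).inter
      PrimeSpectrum.isOpenMap_comap_of_hasGoingDown_of_finitePresentation.isOpen_range
  obtain ⟨_, ⟨g, rfl⟩, hgP, hgO⟩ := (PrimeSpectrum.isTopologicalBasis_basic_opens
    (R := R₁)).exists_subset_of_mem_open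
      (show (⟨P, inferInstance⟩ : PrimeSpectrum R₁) ∈ O from
        ⟨⟨⟨y₁, hy₁⟩, hhy, PrimeSpectrum.ext hy₁P⟩, ⟨w, PrimeSpectrum.ext hwP⟩⟩) hO
  let R₂ := Localization.Away g
  have hdisj : Disjoint (Submonoid.powers g : Set R₁) P := by
    rw [Set.disjoint_left]
    rintro _ ⟨k, rfl⟩ h'
    exact hgP (‹P.IsPrime›.mem_of_pow_mem k h')
  let p₂ := P.map (algebraMap R₁ R₂)
  haveI hp₂ : p₂.IsPrime := IsLocalization.isPrime_of_isPrime_disjoint (Submonoid.powers g) R₂ P ‹_› hdisj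
  have hp₂c : p₂.comap (algebraMap R₁ R₂) = P :=
    IsLocalization.under_map_of_isPrime_disjoint (Submonoid.powers g) R₂ ‹_› hdisj
  haveI : Algebra.Etale R₁ R₂ := Algebra.Etale.of_isLocalizationAway g
  haveI : Algebra.Etale R R₂ := Algebra.Etale.comp R R₁ R₂
  have hfrac₂ : FracSurj (algebraMap R R₂) p₂ := by
    rw [IsScalarTower.algebraMap_eq R R₁ R₂]
    exact (fracSurj_of_isLocalization (Submonoid.powers g) R₂ p₂).comp (hp₂c.symm ▸ hfrac)
  have hpp₂ : p = p₂.comap (algebraMap R R₂) := by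
    rw [IsScalarTower.algebraMap_eq R R₁ R₂, ← Ideal.comap_comap, hp₂c]
    exact hp
  obtain ⟨y₂, hy₂, hy₂p, hy₂y⟩ := exists_prime_tensor p₂ y ((y.over_def p).symm.trans hpp₂) hfrac₂
  let ψ := Algebra.TensorProduct.map (IsScalarTower.toAlgHom R R₁ R₂) (AlgHom.id R D)
  haveI : (y₂.comap ψ.toRingHom).IsPrime := Ideal.IsPrime.comap _
  have hψy : y₂.comap ψ.toRingHom = y₁ := by
    refine eq_of_comap_eq (algebraMap R R₁) (algebraMap R D)
      (Algebra.TensorProduct.includeLeftRingHom : R₁ →+* R₁ ⊗[R] D)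
      (Algebra.TensorProduct.includeRight (R := R) (A := R₁) (B := D)).toRingHom
      (RingHom.ext fun r => ?_) (closure_range_tensor R R₁ D) ?_ ?_ ?_
    · show (algebraMap R R₁ r) ⊗ₜ[R] (1 : D) = (1 : R₁) ⊗ₜ[R] algebraMap R D r
      rw [Algebra.algebraMap_eq_smul_one, Algebra.algebraMap_eq_smul_one, TensorProduct.smul_tmul]
    · have e : (y₂.comap ψ.toRingHom).comap
          (Algebra.TensorProduct.includeLeftRingHom : R₁ →+* R₁ ⊗[R] D) = P := by
        rw [← hp₂c, ← hy₂p, Ideal.comap_comap, Ideal.comap_comap]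
        congr 1
      rwa [e]
    · rw [hy₁y, ← hy₂y, Ideal.comap_comap]
      congr 1
      ext d
      simp [ψ]
    · rw [hy₁P, ← hp₂c, ← hy₂p, Ideal.comap_comap, Ideal.comap_comap]
      congr 1
  refine ⟨R₂, inferInstance, inferInstance, p₂, hp₂, y₂, hy₂, ψ h,
    isEtaleNhd_of_fracSurj hpp₂ hfrac₂, hy₂p, hy₂y, fun h' => hhy (hψy ▸ h'), ?_⟩
  -- geometric irreducibility
  open AlgebraicGeometry CategoryTheory CategoryTheory.Limits in
  refine ⟨fun K _ t Z fst snd hZ => ?_⟩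
  letI : Algebra R₂ K := (AlgebraicGeometry.Spec.preimage t).hom.toAlgebra
  open AlgebraicGeometry in
  have ht : t = Spec.map (CommRingCat.ofHom (algebraMap R₂ K)) := (Spec.map_preimage t).symm
  rw [ht] at hZ
  let χ₁ := (algebraMap R₂ K).comp (algebraMap R₁ R₂)
  have hg₀ : (⟨RingHom.ker χ₁, RingHom.ker_isPrime _⟩ : PrimeSpectrum R₁) ∈ PrimeSpectrum.basicOpen g := by
    intro hg'
    exact ((IsLocalization.Away.algebraMap_isUnit (S := R₂) g).map (algebraMap R₂ K)).ne_zero hg'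
  obtain ⟨⟨x, hxh, hx⟩, ⟨w'', hw''⟩⟩ := hgO hg₀
  haveI := irreducibleSpace_tensor_away (R₂ := R₂) (K := K) σ h (fun Q hQ => by
      by_contra hQ'
      exact hhU (show PrimeSpectrum.comap φ.toRingHom Q ∈ PrimeSpectrum.basicOpen h from hQ) ⟨Q, hQ', rfl⟩)
    w'' (congrArg PrimeSpectrum.asIdeal hw'') x hxh (congrArg PrimeSpectrum.asIdeal hx)
  open AlgebraicGeometry CategoryTheory CategoryTheory.Limits in
  exact ((Scheme.homeoOfIso (hZ.isoPullback ≪≫ pullbackSpecIso R₂ (Localization.Away (ψ h)) K ≪≫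
      Scheme.Spec.mapIso (Algebra.TensorProduct.comm R₂ K (Localization.Away (ψ h))).toRingEquiv.toCommRingCatIso.op))
    ).irreducibleSpace_iff.mpr ‹_›

end Groth.Agent.H7Flat.ElemDev
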