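import Groth.Agent.H7Flat.ElemDev.Connected
import Groth.Agent.H02CA.Idem
import Groth.Agent.H13AlgSp.SmoothSection
import Groth.Agent.S15351
import Groth.Agent.S1324
import Mathlib

/-!
# Geometrically irreducible fibres after an elementary etale localisation

A smooth algebra whose fibre over a prime is geometrically connected has, after an elementary etale
localisation of the base, a basic open around any given point of that fibre all of whose fibres are
geometrically irreducible.
-/

set_option autoImplicit false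
set_option linter.style.haveILetI false
set_option backward.isDefEq.respectTransparency false
set_option maxHeartbeats 1000000

universe u

open TensorProduct AlgebraicGeometry CategoryTheory Limits

namespace Groth.Agent.H7Flat.ElemDev

section Idem

variable {A : Type u} [CommRing A] [IsNoetherianRing A]

/-- In a Noetherian spectrum the connected components are cut out by idempotents. -/
theorem exists_idem_component (x : PrimeSpectrum A) : ∃ e : A, IsIdempotentElem e ∧
    (PrimeSpectrum.basicOpen e : Set (PrimeSpectrum A)) = connectedComponent x := by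
  let S : Set (Ideal A) := {I | ∃ f, IsIdempotentElem f ∧ f ∈ x.asIdeal ∧ I = Ideal.span {f}}
  obtain ⟨_, ⟨f, hf, hfx, rfl⟩, hmax⟩ := set_has_maximal_iff_noetherian.mpr
    (inferInstance : IsNoetherian A A) S ⟨_, 0, IsIdempotentElem.zero, x.asIdeal.zero_mem, rfl⟩
  refine ⟨1 - f, hf.one_sub, ?_⟩
  rw [H02CA.connectedComponent_eq_zeroLocus, PrimeSpectrum.basicOpen_eq_zeroLocus_compl]
  ext P
  simp only [Set.mem_compl_iff, PrimeSpectrum.mem_zeroLocus, Set.singleton_subset_iff, SetLike.mem_coe]
  constructor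
  · intro hP e ⟨he, hex⟩
    have hfP : f ∈ P.asIdeal := by
      have : f * (1 - f) ∈ P.asIdeal := by rw [hf.mul_one_sub_self]; exact P.asIdeal.zero_mem
      exact (P.isPrime.mem_or_mem this).resolve_right hP
    let g := f + e - f * e
    have hg : IsIdempotentElem g := hf.add_sub_mul he
    have hfg : f = f * g := by linear_combination (e - 1) * hf.eq
    have heg : e = e * g := by linear_combination (f - 1) * he.eq
    have hle : Ideal.span {f} ≤ Ideal.span {g} := by
      rw [Ideal.span_le, Set.singleton_subset_iff, SetLike.mem_coe, hfg]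
      exact Ideal.mul_mem_left _ _ (Ideal.subset_span rfl)
    have hgS : Ideal.span {g} ∈ S := ⟨g, hg,
      sub_mem (add_mem hfx hex) (x.asIdeal.mul_mem_right e hfx), rfl⟩
    have heq : Ideal.span {f} = Ideal.span {g} :=
      hle.eq_or_lt.resolve_right (hmax _ hgS)
    have : e ∈ Ideal.span {f} := by
      rw [heq, heg]
      exact Ideal.mul_mem_left _ _ (Ideal.subset_span rfl)
    obtain ⟨a, ha⟩ := Ideal.mem_span_singleton.mp this
    rw [SetLike.mem_coe, ha]
    exact P.asIdeal.mul_mem_right a hfP
  · intro hP h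
    have hfP : f ∈ P.asIdeal := hP ⟨hf, hfx⟩
    refine P.isPrime.one_notMem ?_
    rw [show (1 : A) = (1 - f) + f by ring]
    exact P.asIdeal.add_mem h hfP

/-- The connected component is connected, as the spectrum of a localisation. -/
theorem connectedSpace_away (x : PrimeSpectrum A) {e : A}
    (he : (PrimeSpectrum.basicOpen e : Set (PrimeSpectrum A)) = connectedComponent x) :
    ConnectedSpace (PrimeSpectrum (Localization.Away e)) := by
  have hemb := PrimeSpectrum.localization_away_isOpenEmbedding (Localization.Away e) e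
  rw [connectedSpace_iff_univ]
  have h : _root_.IsConnected (Set.range (PrimeSpectrum.comap (algebraMap A (Localization.Away e)))) := by
    rw [PrimeSpectrum.localization_away_comap_range _ e, he]
    exact isConnected_connectedComponent
  rw [← Set.image_univ] at h
  exact ⟨Set.image_nonempty.mp h.nonempty, hemb.isInducing.isPreconnected_image.mp h.isPreconnected⟩

end Idem

/-- Near a point, the fibre becomes connected. -/
theorem exists_connected_nbhd {R D : Type u} [CommRing R] [CommRing D] [Algebra R D]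
    [Algebra.FiniteType R D] (p : Ideal R) [p.IsPrime] (y : Ideal D) [y.IsPrime] [y.LiesOver p] :
    ∃ a ∉ y, ConnectedSpace (PrimeSpectrum (p.Fiber (Localization.Away a))) := by
  haveI : IsNoetherianRing (p.Fiber D) := Algebra.FiniteType.isNoetherianRing p.ResidueField _
  let e₀ := PrimeSpectrum.preimageHomeomorphFiber R D ⟨p, inferInstance⟩
  let ξ : ↥(PrimeSpectrum.comap (algebraMap R D) ⁻¹' {⟨p, inferInstance⟩}) :=
    ⟨⟨y, inferInstance⟩, PrimeSpectrum.ext (y.over_def p).symm⟩
  let x := e₀ ξ
  obtain ⟨e, -, hex⟩ := exists_idem_component x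
  obtain ⟨s, hs, a, ha⟩ := Ideal.Fiber.exists_smul_eq_one_tmul p e
  have hmem : ∀ P : ↥(PrimeSpectrum.comap (algebraMap R D) ⁻¹' {⟨p, inferInstance⟩}),
      e₀ P ∈ connectedComponent x ↔ a ∉ P.1.asIdeal := by
    intro P
    rw [← hex]
    show e ∉ (e₀ P).asIdeal ↔ _
    have h1 : P.1.asIdeal = (e₀ P).asIdeal.comap
        (Algebra.TensorProduct.includeRight (R := R) (A := p.ResidueField) (B := D)).toRingHom :=
      (congrArg (fun Q => Q.1.asIdeal) (e₀.symm_apply_apply P)).symm
    rw [h1, Ideal.mem_comap, not_iff_not]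
    show _ ↔ (1 : p.ResidueField) ⊗ₜ[R] a ∈ _
    rw [← ha, Algebra.smul_def]
    refine (Ideal.unit_mul_mem_iff_mem _ ?_).symm
    rw [IsScalarTower.algebraMap_apply R p.ResidueField (p.Fiber D)]
    exact (IsUnit.mk0 _ fun h => hs (Ideal.algebraMap_residueField_eq_zero.mp h)).map _
  refine ⟨a, (hmem ξ).mp mem_connectedComponent, ?_⟩
  let Da := Localization.Away a
  have hc : _root_.IsConnected (Subtype.val '' (e₀ ⁻¹' connectedComponent x)) := by
    refine IsConnected.image ?_ _ continuous_subtype_val.continuousOn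
    rw [← e₀.image_symm]
    exact isConnected_connectedComponent.image _ e₀.symm.continuous.continuousOn
  let em := PrimeSpectrum.comap (algebraMap D Da)
  have hemb : Topology.IsOpenEmbedding em := PrimeSpectrum.localization_away_isOpenEmbedding Da a
  have himg : em '' (PrimeSpectrum.comap (algebraMap R Da) ⁻¹' {⟨p, inferInstance⟩}) =
      Subtype.val '' (e₀ ⁻¹' connectedComponent x) := by
    ext Q
    constructor
    · rintro ⟨Q', hQ', rfl⟩
      refine ⟨⟨em Q', ?_⟩, (hmem _).mpr ?_, rfl⟩
      · refine Set.mem_preimage.mpr ?_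
        rw [← PrimeSpectrum.comap_comp_apply, ← IsScalarTower.algebraMap_eq]
        exact hQ'
      · exact (PrimeSpectrum.localization_away_comap_range Da a).le ⟨Q', rfl⟩
    · rintro ⟨P, hP, rfl⟩
      obtain ⟨Q', hQ'⟩ := (PrimeSpectrum.localization_away_comap_range Da a).ge ((hmem P).mp hP)
      refine ⟨Q', ?_, hQ'⟩
      refine Set.mem_preimage.mpr ?_
      rw [IsScalarTower.algebraMap_eq R D Da, PrimeSpectrum.comap_comp_apply, hQ']
      exact P.2
  have hcon : _root_.IsConnected (PrimeSpectrum.comap (algebraMap R Da) ⁻¹' {⟨p, inferInstance⟩}) := by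
    rw [← himg] at hc
    exact ⟨Set.image_nonempty.mp hc.nonempty, hemb.isInducing.isPreconnected_image.mp hc.isPreconnected⟩
  exact (PrimeSpectrum.preimageHomeomorphFiber R Da ⟨p, inferInstance⟩).connectedSpace_iff.mp
    (isConnected_iff_connectedSpace.mp hcon)

/-- Two fields over a ring with the same kernels have a compositum. -/
theorem exists_compositum {A F₁ F₂ : Type u} [CommRing A] [Field F₁] [Field F₂] (a₁ : A →+* F₁)
    (a₂ : A →+* F₂) (h : RingHom.ker a₁ = RingHom.ker a₂) :
    ∃ (F : Type u) (_ : Field F) (b₁ : F₁ →+* F) (b₂ : F₂ →+* F), b₁.comp a₁ = b₂.comp a₂ := by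
  let k : Ideal A := RingHom.ker a₁
  haveI : k.IsPrime := RingHom.ker_isPrime _
  let r₁ : k.ResidueField →+* F₁ := Ideal.ResidueField.lift k a₁ le_rfl fun c hc => isUnit_iff_ne_zero.mpr hc
  let r₂ : k.ResidueField →+* F₂ := Ideal.ResidueField.lift k a₂ h.le fun c hc => isUnit_iff_ne_zero.mpr
    fun h' => hc (show c ∈ RingHom.ker a₁ from h ▸ h')
  letI := r₁.toAlgebra
  letI := r₂.toAlgebra
  haveI : Nontrivial (F₁ ⊗[k.ResidueField] F₂) :=
    Algebra.TensorProduct.nontrivial_of_algebraMap_injective_of_flat_left k.ResidueField F₁ F₂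
      r₂.injective
  obtain ⟨m, hm⟩ := Ideal.exists_maximal (F₁ ⊗[k.ResidueField] F₂)
  letI := Ideal.Quotient.field m
  refine ⟨_ ⧸ m, inferInstance,
    (Ideal.Quotient.mk m).comp Algebra.TensorProduct.includeLeftRingHom,
    (Ideal.Quotient.mk m).comp (Algebra.TensorProduct.includeRight (R := k.ResidueField)).toRingHom, ?_⟩
  refine RingHom.ext fun x => congrArg (Ideal.Quotient.mk m) ?_
  show a₁ x ⊗ₜ[k.ResidueField] (1 : F₂) = (1 : F₁) ⊗ₜ[k.ResidueField] a₂ x
  rw [← Ideal.ResidueField.lift_algebraMap k a₁ le_rfl (fun c hc => isUnit_iff_ne_zero.mpr hc),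
    ← Ideal.ResidueField.lift_algebraMap k a₂ h.le (fun c hc => isUnit_iff_ne_zero.mpr
      fun h' => hc (show c ∈ RingHom.ker a₁ from h ▸ h'))]
  show algebraMap k.ResidueField F₁ (algebraMap A k.ResidueField x) ⊗ₜ[k.ResidueField] (1 : F₂) =
    (1 : F₁) ⊗ₜ[k.ResidueField] algebraMap k.ResidueField F₂ (algebraMap A k.ResidueField x)
  generalize algebraMap A k.ResidueField x = c
  rw [Algebra.algebraMap_eq_smul_one, Algebra.algebraMap_eq_smul_one, TensorProduct.smul_tmul]

/-- The union of the connected components of the fibres met by the section. -/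
noncomputable def compSet {W A : Type u} [CommRing W] [CommRing A] [Algebra W A] (σ : A →ₐ[W] W) :
    Set (PrimeSpectrum A) :=
  MoreMor.sectionComponents (Spec.map (CommRingCat.ofHom (algebraMap W A)))
    (Spec.map (CommRingCat.ofHom σ.toRingHom))

theorem section_fac {W A : Type u} [CommRing W] [CommRing A] [Algebra W A] (σ : A →ₐ[W] W) :
    Spec.map (CommRingCat.ofHom σ.toRingHom) ≫ Spec.map (CommRingCat.ofHom (algebraMap W A)) =
      𝟙 (Spec (CommRingCat.of W)) := by
  rw [← Spec.map_comp, ← CommRingCat.ofHom_comp, ← Spec.map_id]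
  congr 1
  ext w
  exact σ.commutes w

theorem isOpen_compSet {W A : Type u} [CommRing W] [CommRing A] [Algebra W A] [Algebra.Smooth W A]
    (σ : A →ₐ[W] W) : IsOpen (compSet σ) := by
  haveI : Smooth (Spec.map (CommRingCat.ofHom (algebraMap W A))) :=
    (HasRingHomProperty.Spec_iff (P := @Smooth)).mpr (RingHom.smooth_algebraMap.mpr ‹Algebra.Smooth W A›)
  exact Groth.Agent.S15351.result _ _ (section_fac σ)

/-- Over a field the points over the components of the section form a subset of one irreducible set. -/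
theorem exists_irreducible {W A : Type u} [CommRing W] [CommRing A] [Algebra W A] [Algebra.Smooth W A]
    (σ : A →ₐ[W] W) (L : Type u) [Field L] [Algebra W L] :
    ∃ Z : Set (PrimeSpectrum (L ⊗[W] A)), IsIrreducible Z ∧ ∀ P : PrimeSpectrum (L ⊗[W] A),
      PrimeSpectrum.comap (Algebra.TensorProduct.includeRight (R := W) (A := L) (B := A)).toRingHom P ∈
        compSet σ → P ∈ Z := by
  let Λ := L ⊗[W] A
  let σL : Λ →ₐ[L] L := Algebra.TensorProduct.lift (AlgHom.id L L) ((Algebra.ofId W L).comp σ)
    fun _ _ => .all _ _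
  haveI : IsNoetherianRing Λ := Algebra.FiniteType.isNoetherianRing L _
  let c : PrimeSpectrum Λ := ⟨RingHom.ker σL, RingHom.ker_isPrime _⟩
  refine ⟨connectedComponent c, ?_, fun P hP => ?_⟩
  · obtain ⟨e, -, hec⟩ := exists_idem_component c
    haveI := connectedSpace_away c hec
    haveI : Algebra.Etale Λ (Localization.Away e) := Algebra.Etale.of_isLocalizationAway e
    haveI : Algebra.Smooth L (Localization.Away e) := Algebra.Smooth.comp L Λ _
    haveI := irreducibleSpace_of_smooth (k := L) (A := Localization.Away e)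
    rw [← hec, ← PrimeSpectrum.localization_away_comap_range (Localization.Away e) e, ← Set.image_univ]
    exact IsIrreducible.image (irreducibleSpace_def _ |>.mp inferInstance) _
      (PrimeSpectrum.continuous_comap _).continuousOn
  · have hpo : CategoryTheory.IsPushout (CommRingCat.ofHom (algebraMap W L))
        (CommRingCat.ofHom (algebraMap W A))
        (CommRingCat.ofHom (algebraMap L Λ))
        (CommRingCat.ofHom (Algebra.TensorProduct.includeRight (R := W) (A := L) (B := A)).toRingHom) :=
      CommRingCat.isPushout_tensorProduct W L A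
    have hc := (isPullback_SpecMap_of_isPushout _ _ _ _ hpo).flip
    have hs' : Spec.map (CommRingCat.ofHom σL.toRingHom) ≫ Spec.map (CommRingCat.ofHom (algebraMap L Λ)) =
        𝟙 (Spec (CommRingCat.of L)) := section_fac σL
    have hs'g : Spec.map (CommRingCat.ofHom σL.toRingHom) ≫
          Spec.map (CommRingCat.ofHom (Algebra.TensorProduct.includeRight (R := W) (A := L) (B := A)).toRingHom) =
        Spec.map (CommRingCat.ofHom (algebraMap W L)) ≫ Spec.map (CommRingCat.ofHom σ.toRingHom) := by
      rw [← Spec.map_comp, ← Spec.map_comp, ← CommRingCat.ofHom_comp, ← CommRingCat.ofHom_comp]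
      congr 2
      ext a
      show σL ((1 : L) ⊗ₜ[W] a) = algebraMap W L (σ a)
      exact (Algebra.TensorProduct.lift_tmul _ _ _ _ _).trans (one_mul _)
    have h := Groth.Agent.S1324.result _ _ (section_fac σ) _ _ _ hc _ hs' hs'g
    have hP' : P ∈ MoreMor.sectionComponents (Spec.map (CommRingCat.ofHom (algebraMap L Λ)))
        (Spec.map (CommRingCat.ofHom σL.toRingHom)) := h.ge hP
    have hpt : ∀ t : Spec (CommRingCat.of L), t = (⟨⊥, Ideal.isPrime_bot⟩ : PrimeSpectrum L) :=
      fun t => Subsingleton.elim (α := PrimeSpectrum L) _ _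
    let f := Spec.map (CommRingCat.ofHom (algebraMap L Λ))
    have huniv : f ⁻¹' {f P} = Set.univ := Set.eq_univ_of_forall fun Q => (hpt _).trans (hpt _).symm
    have hP2 : P ∈ connectedComponentIn (f ⁻¹' {f P})
        (Spec.map (CommRingCat.ofHom σL.toRingHom) (f P)) := hP'
    have hc0 : Spec.map (CommRingCat.ofHom σL.toRingHom) (f P) = c := by
      rw [hpt (f P)]
      exact PrimeSpectrum.ext (RingHom.ker_eq_comap_bot _).symm
    rw [huniv, connectedComponentIn_univ, hc0] at hP2
    exact hP2

/-- A finite etale neighbourhood on which a smooth algebra has a section. -/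
theorem exists_finite_etale_section {R D : Type u} [CommRing R] [CommRing D] [Algebra R D]
    [Algebra.Smooth R D] (p : Ideal R) [p.IsPrime] (y : Ideal D) [y.IsPrime] [y.LiesOver p] :
    ∃ (R₁ : Type u) (_ : CommRing R₁) (_ : Algebra R R₁) (P : Ideal R₁) (_ : P.IsPrime)
      (W : Type u) (_ : CommRing W) (_ : Algebra R₁ W) (_ : Algebra R W) (_ : IsScalarTower R R₁ W)
      (w : PrimeSpectrum W) (_ : D →ₐ[R] W),
      FlatCA.IsEtaleNhd R R₁ p P ∧ Module.Finite R₁ W ∧ Algebra.Etale R₁ W ∧
        w.asIdeal.comap (algebraMap R₁ W) = P ∧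
        ∀ w' : PrimeSpectrum W, w'.asIdeal.comap (algebraMap R₁ W) = P → w' = w := by
  let f := Spec.map (CommRingCat.ofHom (algebraMap R D))
  haveI : Smooth f := (HasRingHomProperty.Spec_iff (P := @Smooth)).mpr
    (RingHom.smooth_algebraMap.mpr ‹Algebra.Smooth R D›)
  obtain ⟨U, e, r, he, hre, u, hu⟩ :=
    Groth.Agent.H13AlgSp.SmoothSection.exists_etale_section f (⟨y, inferInstance⟩ : PrimeSpectrum D)
  obtain ⟨V, hV, huV, -⟩ := exists_isAffineOpen_mem_and_subset (U := (⊤ : U.Opens)) (x := u) trivial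
  let E := Γ(U, V)
  let ε := Spec.preimage (hV.fromSpec ≫ e)
  let ρ := Spec.preimage (hV.fromSpec ≫ r)
  letI : Algebra R E := ε.hom.toAlgebra
  have hε : Spec.map ε = hV.fromSpec ≫ e := Spec.map_preimage _
  haveI : Algebra.Etale R E := by
    have : Etale (Spec.map ε) := by rw [hε]; infer_instance
    exact RingHom.etale_algebraMap.mp ((HasRingHomProperty.Spec_iff (P := @Etale)).mp this)
  have hcomm : CommRingCat.ofHom (algebraMap R D) ≫ ρ = ε := Spec.map_injective (by
    rw [Spec.map_comp, Spec.map_preimage, hε, Category.assoc, hre])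
  let ρₐ : D →ₐ[R] E :=
    { toRingHom := ρ.hom, commutes' := fun c => congrArg (fun φ => φ.hom c) hcomm }
  let q := (hV.primeIdealOf ⟨u, huV⟩).asIdeal
  haveI : q.IsPrime := (hV.primeIdealOf ⟨u, huV⟩).isPrime
  haveI : q.LiesOver p := ⟨by
    have h1 : Spec.map ε (hV.primeIdealOf ⟨u, huV⟩) = (⟨p, inferInstance⟩ : PrimeSpectrum R) := by
      rw [hε, Scheme.Hom.comp_apply, IsAffineOpen.fromSpec_primeIdealOf, hu]
      exact PrimeSpectrum.ext (y.over_def p).symm
    exact (congrArg PrimeSpectrum.asIdeal h1).symm⟩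
  haveI : Algebra.QuasiFiniteAt R q := inferInstanceAs (Algebra.QuasiFinite R (Localization.AtPrime q))
  obtain ⟨R₁, _, _, _, P, _, _, idem, -, Q₁, _, _, -, hQ₁, hbij, hfin, huniq⟩ :=
    Algebra.exists_etale_isIdempotentElem_forall_liesOver_eq p q
  let W := Localization.Away idem
  haveI : Algebra.Etale (R₁ ⊗[R] E) W := Algebra.Etale.of_isLocalizationAway idem
  haveI : Algebra.Etale R₁ W := Algebra.Etale.comp R₁ (R₁ ⊗[R] E) W
  let wI := Q₁.map (algebraMap (R₁ ⊗[R] E) W)
  have hdisj : Disjoint (Submonoid.powers idem : Set (R₁ ⊗[R] E)) Q₁ := by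
    rw [Set.disjoint_left]
    rintro _ ⟨k, rfl⟩ h
    exact hQ₁ (‹Q₁.IsPrime›.mem_of_pow_mem k h)
  have hwP : wI.IsPrime := IsLocalization.isPrime_of_isPrime_disjoint (Submonoid.powers idem) W Q₁ ‹_› hdisj
  have hwc : wI.comap (algebraMap (R₁ ⊗[R] E) W) = Q₁ :=
    IsLocalization.under_map_of_isPrime_disjoint (Submonoid.powers idem) W ‹_› hdisj
  refine ⟨R₁, inferInstance, inferInstance, P, inferInstance, W, inferInstance, inferInstance,
    inferInstance, inferInstance, ⟨wI, hwP⟩,
    (IsScalarTower.toAlgHom R (R₁ ⊗[R] E) W).comp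
      (Algebra.TensorProduct.includeRight.comp ρₐ), ?_, hfin, inferInstance, ?_, ?_⟩
  · exact ⟨inferInstance, inferInstance, hbij⟩
  · show wI.comap _ = P
    rw [IsScalarTower.algebraMap_eq R₁ (R₁ ⊗[R] E) W, ← Ideal.comap_comap, hwc]
    exact (Q₁.over_def P).symm
  · intro w' hw'
    refine PrimeSpectrum.localization_comap_injective W (Submonoid.powers idem) (PrimeSpectrum.ext ?_)
    show w'.asIdeal.comap _ = wI.comap _
    rw [hwc]
    refine huniq _ inferInstance ⟨?_⟩ ?_
    · rw [Ideal.under_def, Ideal.comap_comap, ← IsScalarTower.algebraMap_eq]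
      exact hw'.symm
    · exact (PrimeSpectrum.localization_away_comap_range W idem).le ⟨w', rfl⟩

theorem isClosedMap_comap_map {R R₁ W D : Type u} [CommRing R] [CommRing R₁] [CommRing W] [CommRing D]
    [Algebra R R₁] [Algebra R W] [Algebra R₁ W] [IsScalarTower R R₁ W] [Algebra R D] [Module.Finite R₁ W] :
    IsClosedMap (PrimeSpectrum.comap
      (Algebra.TensorProduct.map (IsScalarTower.toAlgHom R R₁ W) (AlgHom.id R D)).toRingHom) := by
  refine PrimeSpectrum.isClosedMap_comap_of_isIntegral _ fun t => ?_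
  induction t using TensorProduct.induction_on with
  | zero => exact RingHom.isIntegralElem_zero _
  | add a b ha hb => exact RingHom.IsIntegralElem.add _ ha hb
  | tmul w d =>
    have e : w ⊗ₜ[R] d = (w ⊗ₜ[R] (1 : D)) *
        (Algebra.TensorProduct.map (IsScalarTower.toAlgHom R R₁ W) (AlgHom.id R D)) ((1 : R₁) ⊗ₜ[R] d) := by
      simp
    rw [e]
    refine RingHom.IsIntegralElem.mul _ ?_ (RingHom.isIntegralElem_map _)
    obtain ⟨P, hP, hPw⟩ := Algebra.IsIntegral.isIntegral (R := R₁) w
    refine ⟨P.map (Algebra.TensorProduct.includeLeftRingHom : R₁ →+* R₁ ⊗[R] D), hP.map _, ?_⟩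
    have h0 := congrArg (Algebra.TensorProduct.includeLeftRingHom : W →+* W ⊗[R] D) hPw
    rw [map_zero, Polynomial.hom_eval₂] at h0
    rw [Polynomial.eval₂_map]
    refine Eq.trans ?_ h0
    congr 1

/-- Ring homomorphisms out of the base change of a localisation are determined on generators. -/
theorem hom_ext_tensor_away {R R₁ R₂ D B D₂ K T : Type*} [CommRing R] [CommRing R₁] [CommRing R₂]
    [CommRing D] [CommRing B] [CommRing D₂] [CommRing K] [CommRing T] [Algebra R R₁] [Algebra R R₂]
    [Algebra R D] [Algebra R₂ B] [Algebra D B] [Algebra R₂ D₂] [Algebra B D₂] [IsScalarTower R₂ B D₂]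
    (hgen : Subring.closure (Set.range (algebraMap R₂ B) ∪ Set.range (algebraMap D B)) = ⊤)
    (M : Submonoid B) [IsLocalization M D₂] [Algebra R₂ K] {φ ψ : K ⊗[R₂] D₂ →+* T}
    (hK : ∀ k, φ (k ⊗ₜ 1) = ψ (k ⊗ₜ 1))
    (hD : ∀ d : D, φ (1 ⊗ₜ algebraMap B D₂ (algebraMap D B d)) =
      ψ (1 ⊗ₜ algebraMap B D₂ (algebraMap D B d))) : φ = ψ := by
  have h1 : φ.comp (Algebra.TensorProduct.includeRight (R := R₂) (A := K) (B := D₂)).toRingHom =
      ψ.comp (Algebra.TensorProduct.includeRight (R := R₂) (A := K) (B := D₂)).toRingHom := by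
    refine IsLocalization.ringHom_ext M (RingHom.eq_of_eqOn_set_dense hgen ?_)
    rintro _ (⟨r, rfl⟩ | ⟨d, rfl⟩)
    · simp only [RingHom.comp_apply, ← IsScalarTower.algebraMap_apply R₂ B D₂]
      show φ ((1 : K) ⊗ₜ algebraMap R₂ D₂ r) = ψ ((1 : K) ⊗ₜ algebraMap R₂ D₂ r)
      rw [Algebra.algebraMap_eq_smul_one, ← TensorProduct.smul_tmul]
      exact hK _
    · exact hD d
  refine RingHom.ext fun t => ?_
  induction t using TensorProduct.induction_on with
  | zero => simp
  | add a b ha hb => simp [ha, hb]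
  | tmul k d =>
    have e : k ⊗ₜ[R₂] d = (k ⊗ₜ[R₂] (1 : D₂)) * ((1 : K) ⊗ₜ[R₂] d) := by simp
    rw [e, map_mul, map_mul, hK]
    exact congrArg _ (RingHom.congr_fun h1 d)

end Groth.Agent.H7Flat.ElemDev
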