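import Groth.Agent.H7Flat.ElemDev.Residue
import Groth.Agent.H3CAlg.PruferDimFn
import Groth.Agent.H29Curve.Trdeg
import Groth.Agent.H05EGA4.Equidim
import Mathlib

/-!
# Normalisation of a fibre adapted to a point

For a finite type algebra and a prime whose fibre has dimension at most `n`, a map from a polynomial
ring in `n` variables which is quasi-finite at the prime and sends it to a point with purely
transcendental residue field.
-/

set_option autoImplicit false
set_option linter.style.haveILetI false
set_option backward.isDefEq.respectTransparency false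
set_option maxHeartbeats 400000

universe u

open TensorProduct MvPolynomial

namespace Groth.Agent.H7Flat.ElemDev

/-- A polynomial over the residue field lifts up to a scalar outside the prime. -/
theorem exists_lift_mvPolynomial {R : Type u} [CommRing R] (p : Ideal R) [p.IsPrime] {σ : Type*}
    (f : MvPolynomial σ p.ResidueField) : ∃ s ∉ p, ∃ F : MvPolynomial σ R,
      F.map (algebraMap R p.ResidueField) = C (algebraMap R p.ResidueField s) * f := by
  induction f using MvPolynomial.induction_on' with
  | monomial m a =>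
    obtain ⟨c, d, hd, rfl⟩ := IsFractionRing.div_surjective (A := R ⧸ p) a
    obtain ⟨c, rfl⟩ := Ideal.Quotient.mk_surjective c
    obtain ⟨d, rfl⟩ := Ideal.Quotient.mk_surjective d
    have hd' : d ∉ p := fun h => nonZeroDivisors.ne_zero hd (Ideal.Quotient.eq_zero_iff_mem.mpr h)
    have e : ∀ x : R, algebraMap (R ⧸ p) p.ResidueField (Ideal.Quotient.mk p x) =
        algebraMap R p.ResidueField x := fun x => rfl
    refine ⟨d, hd', monomial m c, ?_⟩
    rw [map_monomial, C_mul_monomial, e, e]
    congr 1
    rw [mul_comm, div_mul_cancel₀]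
    exact fun h => hd' (Ideal.algebraMap_residueField_eq_zero.mp h)
  | add f g hf hg =>
    obtain ⟨s, hs, F, hF⟩ := hf
    obtain ⟨t, ht, G, hG⟩ := hg
    refine ⟨s * t, fun h => (Ideal.IsPrime.mem_or_mem ‹_› h).elim hs ht, C t * F + C s * G, ?_⟩
    simp only [map_add, map_mul, map_C, hF, hG]
    ring

variable {R S : Type u} [CommRing R] [CommRing S] [Algebra R S]

theorem eq_bot_of_comap_finite {A B : Type*} [CommRing A] [IsDomain A] [CommRing B] [IsDomain B] (φ : A →+* B)
    (hφ : φ.Finite) (Q : Ideal B) [Q.IsPrime] (h : Q.comap φ = ⊥) : Q = ⊥ := by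
  algebraize [φ]
  exact Ideal.eq_bot_of_comap_eq_bot (R := A) h

/-- An element of the fibre is, up to a scalar outside `p`, the image of an element of the algebra. -/
theorem isUnit_fibre (p : Ideal R) [p.IsPrime] {s : R} (hs : s ∉ p) :
    IsUnit (algebraMap R (p.Fiber S) s) := by
  rw [IsScalarTower.algebraMap_apply R p.ResidueField (p.Fiber S)]
  exact (IsUnit.mk0 _ fun h => hs (Ideal.algebraMap_residueField_eq_zero.mp h)).map _

theorem fiberIdeal_mono (p : Ideal R) [p.IsPrime] {q q' : Ideal S} (h : q ≤ q') :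
    FlatCA.fiberIdeal p q ≤ FlatCA.fiberIdeal p q' := Ideal.map_mono h

theorem includeRight_mem_fiberIdeal_iff (p : Ideal R) [p.IsPrime] (q : Ideal S) [q.IsPrime]
    [q.LiesOver p] (c : S) : (1 : p.ResidueField) ⊗ₜ[R] c ∈ FlatCA.fiberIdeal p q ↔ c ∈ q := by
  conv_rhs => rw [← H8Props.Devissage.comap_fiberIdeal p q]
  exact Iff.rfl

/-- Purely transcendental extensions do not contain algebraic elements outside the base. -/
theorem mem_range_of_isIntegral {k F : Type u} [Field k] [Field F] [Algebra k F] {ι : Type*}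
    (x : ι → F) (hx : AlgebraicIndependent k x) (a : F)
    (hfrac : ∃ P Q : MvPolynomial ι k, aeval x Q ≠ 0 ∧ a * aeval x Q = aeval x P)
    (ha : IsIntegral k a) : a ∈ (algebraMap k F).range := by
  obtain ⟨P, Q, hQ, hPQ⟩ := hfrac
  let L := algebraicClosure k F
  let a' : L := ⟨a, mem_algebraicClosure_iff'.mpr ha⟩
  have hx' : AlgebraicIndependent L x := hx.algebraicClosure
  have h0 : aeval x (C a' * Q.map (algebraMap k L) - P.map (algebraMap k L)) = (0 : F) := by
    rw [map_sub, map_mul, aeval_C, aeval_map_algebraMap, aeval_map_algebraMap]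
    show a * _ - _ = 0
    rw [hPQ, sub_self]
  have h1 := sub_eq_zero.mp (hx'.eq_zero_of_aeval_eq_zero _ h0)
  have hQ0 : Q ≠ 0 := fun h => hQ (by rw [h, map_zero])
  obtain ⟨m, hm⟩ := (MvPolynomial.ne_zero_iff.mp hQ0)
  have h2 := congrArg (fun f => ((coeff m f : L) : F)) h1
  simp only [coeff_C_mul, coeff_map] at h2
  push_cast at h2
  refine ⟨coeff m P / coeff m Q, ?_⟩
  have hne : algebraMap k F (coeff m Q) ≠ 0 := by simpa using hm
  rw [map_div₀, div_eq_iff hne]
  exact h2.symm

theorem algebraMap_eq_aeval {R K : Type*} [CommRing R] [CommRing K] [Algebra R K] {σ : Type*}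
    [Algebra (MvPolynomial σ R) K] [IsScalarTower R (MvPolynomial σ R) K] (G : MvPolynomial σ R) :
    algebraMap (MvPolynomial σ R) K G = aeval (fun i => algebraMap (MvPolynomial σ R) K (X i)) G :=
  AlgHom.congr_fun (φ₁ := IsScalarTower.toAlgHom R (MvPolynomial σ R) K)
    (φ₂ := aeval fun i => algebraMap (MvPolynomial σ R) K (X i)) (algHom_ext fun i => by simp) G

/-- The point cut out by a polynomial map whose first variables are independent at the prime and
whose other variables vanish there. -/
theorem purelyTranscendental_of_coords (p : Ideal R) [p.IsPrime] {n : ℕ}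
    (y : Ideal (MvPolynomial (Fin n) R)) [y.IsPrime] [hy : y.LiesOver p] (r : ℕ) (hr : r ≤ n)
    (hvan : ∀ i : Fin n, r ≤ (i : ℕ) → X i ∈ y)
    (hind : ∀ F : MvPolynomial (Fin r) R, rename (Fin.castLE hr) F ∈ y →
      F.map (algebraMap R p.ResidueField) = 0) :
    FlatCA.PurelyTranscendental p y ∧
      ∀ a : y.ResidueField,
        letI : Algebra p.ResidueField y.ResidueField :=
          (Ideal.ResidueField.mapₐ p y (Algebra.ofId R (MvPolynomial (Fin n) R)) hy.over).toRingHom.toAlgebra
        IsIntegral p.ResidueField a → a ∈ (algebraMap p.ResidueField y.ResidueField).range := by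
  let φ := Ideal.ResidueField.mapₐ p y (Algebra.ofId R (MvPolynomial (Fin n) R)) hy.over
  letI : Algebra p.ResidueField y.ResidueField := φ.toRingHom.toAlgebra
  haveI : IsScalarTower R p.ResidueField y.ResidueField :=
    IsScalarTower.of_algebraMap_eq fun c => (φ.commutes c).symm
  let x : Fin r → y.ResidueField := fun i =>
    algebraMap (MvPolynomial (Fin n) R) y.ResidueField (X (Fin.castLE hr i))
  have hev : ∀ F : MvPolynomial (Fin r) R, aeval x (F.map (algebraMap R p.ResidueField)) =
      algebraMap _ y.ResidueField (rename (Fin.castLE hr) F) := by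
    intro F
    rw [aeval_map_algebraMap, algebraMap_eq_aeval (R := R), aeval_rename]
    rfl
  have hind' : AlgebraicIndependent p.ResidueField x := by
    rw [algebraicIndependent_iff]
    intro f hf
    obtain ⟨s, hs, F, hF⟩ := exists_lift_mvPolynomial p f
    have h1 : aeval x (F.map (algebraMap R p.ResidueField)) = 0 := by
      rw [hF, map_mul, hf, mul_zero]
    rw [hev, Ideal.algebraMap_residueField_eq_zero] at h1
    have h2 := hind F h1
    rw [hF, mul_eq_zero, C_eq_zero] at h2
    exact h2.resolve_left fun h => hs (Ideal.algebraMap_residueField_eq_zero.mp h)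
  -- every element is a fraction of polynomials in the coordinates
  let θ : MvPolynomial (Fin n) R →ₐ[R] MvPolynomial (Fin r) R :=
    aeval fun i => if h : (i : ℕ) < r then X ⟨i, h⟩ else 0
  have hred : ∀ G : MvPolynomial (Fin n) R,
      algebraMap _ y.ResidueField (rename (Fin.castLE hr) (θ G)) = algebraMap _ y.ResidueField G := by
    intro G
    conv_rhs => rw [algebraMap_eq_aeval (R := R)]
    rw [algebraMap_eq_aeval (R := R), aeval_rename]
    refine AlgHom.congr_fun (φ₁ := (aeval _).comp θ) (φ₂ := aeval _) (algHom_ext fun i => ?_) G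
    by_cases h : (i : ℕ) < r
    · simp [θ, h, Fin.castLE]
    · simp [θ, h, Ideal.algebraMap_residueField_eq_zero.mpr (hvan i (not_lt.mp h))]
  have hfrac : ∀ a : y.ResidueField, ∃ P Q : MvPolynomial (Fin r) p.ResidueField,
      aeval x Q ≠ 0 ∧ a * aeval x Q = aeval x P := by
    intro a
    obtain ⟨c, d, hd, rfl⟩ := IsFractionRing.div_surjective (A := MvPolynomial (Fin n) R ⧸ y) a
    obtain ⟨c, rfl⟩ := Ideal.Quotient.mk_surjective c
    obtain ⟨d, rfl⟩ := Ideal.Quotient.mk_surjective d
    have hne : algebraMap _ y.ResidueField d ≠ 0 := fun h =>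
      nonZeroDivisors.ne_zero hd (Ideal.Quotient.eq_zero_iff_mem.mpr
        (Ideal.algebraMap_residueField_eq_zero.mp h))
    refine ⟨(θ c).map (algebraMap R p.ResidueField), (θ d).map (algebraMap R p.ResidueField), ?_, ?_⟩
    · rwa [hev, hred]
    · rw [hev, hev, hred, hred]
      exact div_mul_cancel₀ _ hne
  refine ⟨?_, fun a ha => mem_range_of_isIntegral x hind' a (hfrac a) ha⟩
  have htop : IntermediateField.adjoin p.ResidueField (Set.range x) = ⊤ := by
    refine eq_top_iff.2 fun a _ => ?_
    obtain ⟨P, Q, hQ, hPQ⟩ := hfrac a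
    have hmem : ∀ f : MvPolynomial (Fin r) p.ResidueField,
        aeval x f ∈ IntermediateField.adjoin p.ResidueField (Set.range x) := fun f =>
      IntermediateField.algebra_adjoin_le_adjoin _ _
        (by rw [Algebra.adjoin_range_eq_range_aeval]; exact ⟨f, rfl⟩)
    rw [show a = aeval x P / aeval x Q from (eq_div_iff hQ).mpr hPQ]
    exact div_mem (hmem P) (hmem Q)
  refine ⟨ULift.{u} (Fin r), fun i => x i.down, ?_, ?_⟩
  · have h2 : AlgebraicIndependent p.ResidueField fun i : ULift.{u} (Fin r) => x i.down :=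
      hind'.comp _ ULift.down_injective
    refine h2.isTranscendenceBasis_iff_isAlgebraic.mpr ?_
    have hr' : Set.range (fun i : ULift.{u} (Fin r) => x i.down) = Set.range x :=
      ULift.down_surjective.range_comp x
    rw [hr', ← IntermediateField.isAlgebraic_adjoin_iff_top, htop]
    exact ⟨fun a => isAlgebraic_algebraMap (⟨a, trivial⟩ : (⊤ : IntermediateField p.ResidueField y.ResidueField))⟩
  · rwa [show Set.range (fun i : ULift.{u} (Fin r) => x i.down) = Set.range x from
      ULift.down_surjective.range_comp x]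

/-- Normalisation of the fibre adapted to a point. -/
theorem exists_adapted [Algebra.FiniteType R S] (p : Ideal R) [p.IsPrime] (q : Ideal S) [q.IsPrime]
    [q.LiesOver p] (n : ℕ) (hdim : ringKrullDim (p.Fiber S) ≤ n) :
    ∃ (θ : MvPolynomial (Fin n) R →ₐ[R] S) (hy : (q.comap θ.toRingHom).LiesOver p),
      (letI := θ.toRingHom.toAlgebra; Algebra.QuasiFiniteAt (MvPolynomial (Fin n) R) q) ∧
      FlatCA.PurelyTranscendental p (q.comap θ.toRingHom) ∧
      ∀ a : (q.comap θ.toRingHom).ResidueField,
        letI : Algebra p.ResidueField (q.comap θ.toRingHom).ResidueField :=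
          (Ideal.ResidueField.mapₐ p (q.comap θ.toRingHom)
            (Algebra.ofId R (MvPolynomial (Fin n) R)) hy.over).toRingHom.toAlgebra
        IsIntegral p.ResidueField a →
          a ∈ (algebraMap p.ResidueField (q.comap θ.toRingHom).ResidueField).range := by
  classical
  haveI : IsNoetherianRing (p.Fiber S) := Algebra.FiniteType.isNoetherianRing p.ResidueField _
  haveI : (FlatCA.fiberIdeal p q).IsPrime := H8Props.Devissage.isPrime_fiberIdeal p q
  let x := FlatCA.fiberIdeal p q
  obtain ⟨r, g, hg, hgf⟩ := exists_finite_inj_algHom_of_fg p.ResidueField (p.Fiber S ⧸ x)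
  obtain ⟨t, htmin, htcard⟩ := Ideal.exists_finset_card_eq_height_of_isNoetherianRing x
  -- dimensions
  have hrt : r + t.card ≤ n := by
    letI := g.toRingHom.toAlgebra
    have h1 : ringKrullDim (MvPolynomial (Fin r) p.ResidueField) ≤ ringKrullDim (p.Fiber S ⧸ x) :=
      H29Curve.ringKrullDim_le_of_isIntegral g.toRingHom (RingHom.IsIntegral.of_finite hgf) hg
    rw [MvPolynomial.ringKrullDim_of_isNoetherianRing, ringKrullDim_eq_zero_of_field, zero_add,
      Nat.card_fin] at h1
    have h2 := (add_le_add (le_refl (x.height : WithBot ℕ∞)) h1).trans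
      ((H05EGA4.height_add_dim_quotient_le x).trans hdim)
    rw [← htcard] at h2
    rw [add_comm]
    exact_mod_cast h2
  -- lifts of the coordinates
  have hlift : ∀ i : Fin r, ∃ s ∉ p, ∃ c : S, Ideal.Quotient.mk x (algebraMap R (p.Fiber S) s) * g (X i) =
      Ideal.Quotient.mk x (1 ⊗ₜ[R] c) := fun i => by
    obtain ⟨a, ha⟩ := Ideal.Quotient.mk_surjective (g (X i))
    obtain ⟨s, hs, c, hc⟩ := Ideal.Fiber.exists_smul_eq_one_tmul p a
    exact ⟨s, hs, c, by rw [← ha, ← hc, Algebra.smul_def, map_mul]⟩
  choose s hs c hc using hlift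
  let u : Fin r → p.Fiber S ⧸ x := fun i => Ideal.Quotient.mk x (1 ⊗ₜ[R] c i)
  let scale : MvPolynomial (Fin r) p.ResidueField →ₐ[p.ResidueField] MvPolynomial (Fin r) p.ResidueField :=
    aeval fun i => C (algebraMap R p.ResidueField (s i)) * X i
  let unscale : MvPolynomial (Fin r) p.ResidueField →ₐ[p.ResidueField] MvPolynomial (Fin r) p.ResidueField :=
    aeval fun i => C (algebraMap R p.ResidueField (s i))⁻¹ * X i
  have hne : ∀ i, algebraMap R p.ResidueField (s i) ≠ 0 := fun i h =>
    hs i (Ideal.algebraMap_residueField_eq_zero.mp h)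
  let e : MvPolynomial (Fin r) p.ResidueField ≃ₐ[p.ResidueField] MvPolynomial (Fin r) p.ResidueField :=
    AlgEquiv.ofAlgHom scale unscale
      (algHom_ext fun i => by
        simp only [scale, unscale, AlgHom.comp_apply, AlgHom.id_apply, aeval_X, map_mul, aeval_C,
          algebraMap_eq]
        rw [← mul_assoc, ← map_mul, inv_mul_cancel₀ (hne i), map_one, one_mul])
      (algHom_ext fun i => by
        simp only [scale, unscale, AlgHom.comp_apply, AlgHom.id_apply, aeval_X, map_mul, aeval_C,
          algebraMap_eq]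
        rw [← mul_assoc, ← map_mul, mul_inv_cancel₀ (hne i), map_one, one_mul])
  have hu : aeval u = g.comp e.toAlgHom := algHom_ext fun i => by
    have : g (C (algebraMap R p.ResidueField (s i))) =
        Ideal.Quotient.mk x (algebraMap R (p.Fiber S) (s i)) := by
      rw [IsScalarTower.algebraMap_apply R p.ResidueField (p.Fiber S)]
      exact g.commutes _
    rw [aeval_X]
    show u i = g (scale (X i))
    simp only [scale, aeval_X, map_mul, this, u, hc]
  have hinj : Function.Injective (aeval (R := p.ResidueField) u) := by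
    rw [hu]; exact hg.comp e.injective
  have hfin := hgf.comp (AlgHom.Finite.of_surjective _ e.surjective)
  -- the remaining coordinates
  choose st hst d hd using fun a : p.Fiber S => Ideal.Fiber.exists_smul_eq_one_tmul p a
  let dl : Fin t.card → S := fun k => d (t.equivFin.symm k)
  have hdq : ∀ a ∈ t, d a ∈ q := fun a ha => by
    rw [← includeRight_mem_fiberIdeal_iff p q, ← hd, Algebra.smul_def]
    exact x.mul_mem_left _ (htmin.1.2 (Ideal.subset_span ha))
  let co : Fin n → S := fun i =>
    if h : (i : ℕ) < r then c ⟨i, h⟩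
    else if h' : (i : ℕ) - r < t.card then dl ⟨(i : ℕ) - r, h'⟩ else 0
  let θ : MvPolynomial (Fin n) R →ₐ[R] S := aeval co
  have hy : (q.comap θ.toRingHom).LiesOver p := ⟨by
    rw [Ideal.under_def, Ideal.comap_comap, AlgHom.toRingHom_eq_coe, AlgHom.comp_algebraMap]
    exact q.over_def p⟩
  have hvan : ∀ i : Fin n, r ≤ (i : ℕ) → X i ∈ q.comap θ.toRingHom := by
    intro i hi
    show θ (X i) ∈ q
    simp only [θ, aeval_X, co, dif_neg (not_lt.mpr hi)]
    split_ifs with h'
    · exact hdq _ (Finset.coe_mem _)
    · exact q.zero_mem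
  have hrn : r ≤ n := le_trans (Nat.le_add_right _ _) hrt
  have hev : ∀ F : MvPolynomial (Fin r) R, aeval u (F.map (algebraMap R p.ResidueField)) =
      Ideal.Quotient.mk x (1 ⊗ₜ[R] θ (rename (Fin.castLE hrn) F)) := by
    intro F
    rw [aeval_map_algebraMap]
    exact AlgHom.congr_fun (φ₁ := aeval (R := R) u)
      (φ₂ := ((Ideal.Quotient.mkₐ R x).comp
        (Algebra.TensorProduct.includeRight (R := R) (A := p.ResidueField) (B := S))).comp
          (θ.comp (rename (Fin.castLE hrn))))
      (algHom_ext fun i => by simp [θ, co, u]) F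
  have hind : ∀ F : MvPolynomial (Fin r) R, θ (rename (Fin.castLE hrn) F) ∈ q →
      F.map (algebraMap R p.ResidueField) = 0 := by
    intro F hF
    refine hinj ?_
    rw [map_zero, hev, Ideal.Quotient.eq_zero_iff_mem]
    exact (includeRight_mem_fiberIdeal_iff p q _).mpr hF
  obtain ⟨hpt, hac⟩ := purelyTranscendental_of_coords p (q.comap θ.toRingHom) r hrn hvan hind
  refine ⟨θ, hy, ?_, hpt, hac⟩
  -- quasi-finiteness
  letI := θ.toRingHom.toAlgebra
  haveI : IsScalarTower R (MvPolynomial (Fin n) R) S :=
    IsScalarTower.of_algebraMap_eq fun a => (θ.commutes a).symm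
  haveI : Algebra.FiniteType (MvPolynomial (Fin n) R) S := .of_restrictScalars_finiteType R _ _
  refine H3CAlg.PruferDimFn.quasiFiniteAt_of_isolated ⟨q, inferInstance⟩ fun ⟨q', hq'⟩ h hcomp => ?_
  have hco : q'.comap θ.toRingHom = q.comap θ.toRingHom := congrArg PrimeSpectrum.asIdeal h
  haveI : q'.LiesOver p := ⟨by
    rw [hy.over, ← hco, Ideal.under_def, Ideal.comap_comap, AlgHom.toRingHom_eq_coe,
      AlgHom.comp_algebraMap]⟩
  haveI : (FlatCA.fiberIdeal p q').IsPrime := H8Props.Devissage.isPrime_fiberIdeal p q'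
  refine PrimeSpectrum.ext ?_
  suffices FlatCA.fiberIdeal p q' = x by
    show q' = q
    rw [← H8Props.Devissage.comap_fiberIdeal p q', this]
    exact H8Props.Devissage.comap_fiberIdeal p q
  have hle : Ideal.span (t : Set (p.Fiber S)) ≤ FlatCA.fiberIdeal p q' := by
    rw [Ideal.span_le]
    intro a ha
    let k := t.equivFin ⟨a, ha⟩
    have hki : r + (k : ℕ) < n := lt_of_lt_of_le (by omega) hrt
    have h1 : d a ∈ q' := by
      have h2 : X (⟨r + k, hki⟩ : Fin n) ∈ q'.comap θ.toRingHom := by
        rw [hco]; exact hvan _ (Nat.le_add_right _ _)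
      have h3 : θ (X ⟨r + k, hki⟩) ∈ q' := h2
      simpa [θ, co, dl, k, k.2] using h3
    rw [← includeRight_mem_fiberIdeal_iff p q', ← hd, Algebra.smul_def,
      Ideal.unit_mul_mem_iff_mem _ (isUnit_fibre p (hst a))] at h1
    exact h1
  rcases hcomp with hc' | hc'
  · exact le_antisymm (fiberIdeal_mono p hc')
      (htmin.2 ⟨inferInstance, hle⟩ (fiberIdeal_mono p hc'))
  · have hxle : x ≤ FlatCA.fiberIdeal p q' := fiberIdeal_mono p hc'
    let Q := (FlatCA.fiberIdeal p q').map (Ideal.Quotient.mk x)
    haveI : Q.IsPrime := Ideal.map_isPrime_of_surjective Ideal.Quotient.mk_surjective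
      (by rwa [Ideal.mk_ker])
    have hbot : Q.comap (g.comp scale) = ⊥ := by
      refine eq_bot_iff.mpr fun f hf => ?_
      obtain ⟨a, ha, F, hF⟩ := exists_lift_mvPolynomial p f
      have h1 : aeval u (F.map (algebraMap R p.ResidueField)) ∈ Q := by
        rw [hF, map_mul]
        refine Q.mul_mem_left _ ?_
        rw [hu]
        exact hf
      rw [hev, Ideal.mem_quotient_iff_mem hxle, includeRight_mem_fiberIdeal_iff] at h1
      have h2 : rename (Fin.castLE hrn) F ∈ q.comap θ.toRingHom := hco ▸ (Ideal.mem_comap.mpr h1)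
      have h3 := hind F h2
      rw [hF, mul_eq_zero, C_eq_zero] at h3
      exact h3.resolve_left fun h => ha (Ideal.algebraMap_residueField_eq_zero.mp h)
    have hQ : Q = ⊥ :=
      eq_bot_of_comap_finite (A := MvPolynomial (Fin r) p.ResidueField) (B := p.Fiber S ⧸ x)
        (g.comp scale).toRingHom hfin Q hbot
    refine le_antisymm (fun a ha => ?_) hxle
    have h4 : Ideal.Quotient.mk x a ∈ Q := Ideal.mem_map_of_mem _ ha
    rw [hQ, Ideal.mem_bot] at h4
    exact Ideal.Quotient.eq_zero_iff_mem.mp h4

end Groth.Agent.H7Flat.ElemDev
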