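import Groth.Agent.H8Props.Devissage.Points
import Mathlib

/-!
# Points without residue field extension

`FracSurj f P`: every element of the target is, modulo the prime `P`, a fraction of elements coming
from the source.
-/

set_option autoImplicit false
set_option linter.style.haveILetI false

universe u

open TensorProduct

namespace Groth.Agent.H7Flat.ElemDev

/-- Modulo `P` every element is a fraction of elements coming from the source. -/
def FracSurj {R S : Type*} [CommRing R] [CommRing S] (f : R →+* S) (P : Ideal S) : Prop :=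
  ∀ t : S, ∃ c d : R, f d ∉ P ∧ t * f d - f c ∈ P

theorem fracSurj_of_surjective {R S : Type*} [CommRing R] [CommRing S] (f : R →+* S)
    (hf : Function.Surjective f) (P : Ideal S) [P.IsPrime] : FracSurj f P := fun t => by
  obtain ⟨c, rfl⟩ := hf t
  exact ⟨c, 1, by simpa using P.one_notMem, by simp⟩

theorem fracSurj_of_isLocalization {R : Type*} [CommRing R] (M : Submonoid R) (S : Type*) [CommRing S]
    [Algebra R S] [IsLocalization M S] (P : Ideal S) [P.IsPrime] : FracSurj (algebraMap R S) P := by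
  intro t
  obtain ⟨⟨c, d⟩, h⟩ := IsLocalization.surj M t
  refine ⟨c, d, fun hd => ?_, ?_⟩
  · exact P.one_notMem (by
      obtain ⟨u, hu⟩ := IsLocalization.map_units S d
      have := P.mul_mem_left (↑u⁻¹ : S) (hu ▸ hd : (u : S) ∈ P)
      simpa using this)
  · rw [h]; simp

theorem FracSurj.comp {R S T : Type*} [CommRing R] [CommRing S] [CommRing T] {f : R →+* S}
    {g : S →+* T} {Q : Ideal T} [Q.IsPrime] (hg : FracSurj g Q) (hf : FracSurj f (Q.comap g)) :
    FracSurj (g.comp f) Q := by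
  intro t
  obtain ⟨c, d, hd, h⟩ := hg t
  obtain ⟨c₁, c₂, hc₂, hc⟩ := hf c
  obtain ⟨d₁, d₂, hd₂, hdd⟩ := hf d
  have hc' : g c * g (f c₂) - g (f c₁) ∈ Q := by simpa using hc
  have hd' : g d * g (f d₂) - g (f d₁) ∈ Q := by simpa using hdd
  have hd₁ : g (f d₁) ∉ Q := fun h1 => by
    have : g d * g (f d₂) ∈ Q := by simpa using Q.add_mem hd' h1
    rcases (Ideal.IsPrime.mem_or_mem ‹Q.IsPrime› this) with h2 | h2
    · exact hd h2
    · exact hd₂ (Ideal.mem_comap.mpr h2)
  refine ⟨c₁ * d₂, c₂ * d₁, fun h1 => ?_, ?_⟩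
  · simp only [RingHom.comp_apply, map_mul] at h1
    rcases (Ideal.IsPrime.mem_or_mem ‹Q.IsPrime› h1) with h2 | h2
    · exact hc₂ (Ideal.mem_comap.mpr h2)
    · exact hd₁ h2
  · simp only [RingHom.comp_apply, map_mul]
    have e : t * (g (f c₂) * g (f d₁)) - g (f c₁) * g (f d₂) =
        -(t * g (f c₂)) * (g d * g (f d₂) - g (f d₁)) + g (f c₂) * g (f d₂) * (t * g d - g c) +
          g (f d₂) * (g c * g (f c₂) - g (f c₁)) := by ring
    rw [e]
    exact Q.add_mem (Q.add_mem (Q.mul_mem_left _ hd') (Q.mul_mem_left _ h)) (Q.mul_mem_left _ hc')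

section Generated

variable {R R' S A : Type*} [CommRing R] [CommRing R'] [CommRing S] [CommRing A]
  (i : R →+* R') (j : R →+* S) (a : R' →+* A) (b : S →+* A)

/-- Simultaneous fractions modulo all primes over the given pair of primes. -/
theorem exists_frac_forall (hcomm : a.comp i = b.comp j)
    (hgen : Subring.closure (Set.range a ∪ Set.range b) = ⊤) {P : Ideal R'} [P.IsPrime]
    {q : Ideal S} [q.IsPrime] (hi : FracSurj i P) (hpq : q.comap j = P.comap i) (t : A) :
    ∃ c d : S, d ∉ q ∧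
      ∀ (Q : Ideal A), Q.IsPrime → Q.comap b = q → Q.comap a = P → t * b d - b c ∈ Q := by
  have ht : t ∈ Subring.closure (Set.range a ∪ Set.range b) := hgen ▸ trivial
  induction ht using Subring.closure_induction with
  | mem x hx =>
    rcases hx with ⟨r, rfl⟩ | ⟨s, rfl⟩
    · obtain ⟨c, d, hd, h⟩ := hi r
      refine ⟨j c, j d, fun h1 => hd ?_, fun Q _ _ hQa => ?_⟩
      · have : d ∈ q.comap j := h1
        rwa [hpq, Ideal.mem_comap] at this
      · have h2 : a (r * i d - i c) ∈ Q := by rw [← Ideal.mem_comap, hQa]; exact h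
        have e : ∀ x, a (i x) = b (j x) := fun x => RingHom.congr_fun hcomm x
        simpa [map_sub, map_mul, e] using h2
    · exact ⟨s, 1, q.one_notMem, fun Q _ _ _ => by simp⟩
  | zero => exact ⟨0, 1, q.one_notMem, fun Q _ _ _ => by simp⟩
  | one => exact ⟨1, 1, q.one_notMem, fun Q _ _ _ => by simp⟩
  | add x y _ _ hx hy =>
    obtain ⟨c₁, d₁, h₁, H₁⟩ := hx
    obtain ⟨c₂, d₂, h₂, H₂⟩ := hy
    refine ⟨c₁ * d₂ + c₂ * d₁, d₁ * d₂, fun h => (Ideal.IsPrime.mem_or_mem ‹_› h).elim h₁ h₂,
      fun Q hQ hb ha => ?_⟩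
    have e : (x + y) * b (d₁ * d₂) - b (c₁ * d₂ + c₂ * d₁) =
        b d₂ * (x * b d₁ - b c₁) + b d₁ * (y * b d₂ - b c₂) := by
      simp only [map_mul, map_add]; ring
    rw [e]
    exact Q.add_mem (Q.mul_mem_left _ (H₁ Q hQ hb ha)) (Q.mul_mem_left _ (H₂ Q hQ hb ha))
  | neg x _ hx =>
    obtain ⟨c, d, hd, H⟩ := hx
    refine ⟨-c, d, hd, fun Q hQ hb ha => ?_⟩
    have e : -x * b d - b (-c) = -(x * b d - b c) := by simp only [map_neg]; ring
    rw [e]
    exact Q.neg_mem (H Q hQ hb ha)
  | mul x y _ _ hx hy =>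
    obtain ⟨c₁, d₁, h₁, H₁⟩ := hx
    obtain ⟨c₂, d₂, h₂, H₂⟩ := hy
    refine ⟨c₁ * c₂, d₁ * d₂, fun h => (Ideal.IsPrime.mem_or_mem ‹_› h).elim h₁ h₂,
      fun Q hQ hb ha => ?_⟩
    have e : (x * y) * b (d₁ * d₂) - b (c₁ * c₂) =
        (y * b d₂) * (x * b d₁ - b c₁) + b c₁ * (y * b d₂ - b c₂) := by
      simp only [map_mul]; ring
    rw [e]
    exact Q.add_mem (Q.mul_mem_left _ (H₁ Q hQ hb ha)) (Q.mul_mem_left _ (H₂ Q hQ hb ha))

theorem eq_of_comap_eq (hcomm : a.comp i = b.comp j)
    (hgen : Subring.closure (Set.range a ∪ Set.range b) = ⊤) {Q₁ Q₂ : Ideal A} [Q₁.IsPrime]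
    [Q₂.IsPrime] (hi : FracSurj i (Q₁.comap a)) (hb : Q₂.comap b = Q₁.comap b)
    (ha : Q₂.comap a = Q₁.comap a) : Q₁ = Q₂ := by
  have hpq : (Q₁.comap b).comap j = (Q₁.comap a).comap i := by
    rw [Ideal.comap_comap, Ideal.comap_comap, hcomm]
  ext t
  obtain ⟨c, d, hd, H⟩ := exists_frac_forall i j a b hcomm hgen hi hpq t
  have key : ∀ (Q : Ideal A), Q.IsPrime → Q.comap b = Q₁.comap b → Q.comap a = Q₁.comap a →
      (t ∈ Q ↔ c ∈ Q₁.comap b) := by
    intro Q hQ h1 h2
    have h3 := H Q hQ h1 h2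
    rw [← h1] at hd ⊢
    simp only [Ideal.mem_comap] at hd ⊢
    refine ⟨fun h4 => ?_, fun h4 => ?_⟩
    · simpa using Q.sub_mem (Q.mul_mem_right (b d) h4) h3
    · exact (hQ.mem_or_mem (by simpa using Q.add_mem h3 h4)).resolve_right hd
  exact (key Q₁ ‹_› rfl rfl).trans (key Q₂ ‹_› hb ha).symm

theorem fracSurj_of_generated (hcomm : a.comp i = b.comp j)
    (hgen : Subring.closure (Set.range a ∪ Set.range b) = ⊤) (Q : Ideal A) [Q.IsPrime]
    (hi : FracSurj i (Q.comap a)) : FracSurj b Q := by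
  intro t
  have hpq : (Q.comap b).comap j = (Q.comap a).comap i := by
    rw [Ideal.comap_comap, Ideal.comap_comap, hcomm]
  obtain ⟨c, d, hd, H⟩ := exists_frac_forall i j a b hcomm hgen hi hpq t
  exact ⟨c, d, hd, H Q ‹_› rfl rfl⟩

end Generated

theorem closure_range_tensor (R A B : Type*) [CommRing R] [CommRing A] [CommRing B] [Algebra R A]
    [Algebra R B] :
    Subring.closure (Set.range (Algebra.TensorProduct.includeLeftRingHom : A →+* A ⊗[R] B) ∪
      Set.range (Algebra.TensorProduct.includeRight (R := R) (A := A) (B := B)).toRingHom) = ⊤ := by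
  refine eq_top_iff.2 fun t _ => ?_
  induction t using TensorProduct.induction_on with
  | zero => exact Subring.zero_mem _
  | tmul x y =>
    have e : x ⊗ₜ[R] y = (x ⊗ₜ[R] (1 : B)) * ((1 : A) ⊗ₜ[R] y) := by simp
    rw [e]
    exact Subring.mul_mem _ (Subring.subset_closure (.inl ⟨x, rfl⟩))
      (Subring.subset_closure (.inr ⟨y, rfl⟩))
  | add x y hx hy => exact Subring.add_mem _ (hx trivial) (hy trivial)

section Residue

variable {R S : Type u} [CommRing R] [CommRing S] [Algebra R S] {P : Ideal S} [P.IsPrime]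
  {p : Ideal R} [p.IsPrime]

theorem fracSurj_of_bijective (h : p = P.comap (algebraMap R S))
    (hb : Function.Surjective (Ideal.ResidueField.mapₐ p P (Algebra.ofId R S) h)) :
    FracSurj (algebraMap R S) P := by
  intro t
  obtain ⟨x, hx⟩ := hb (algebraMap S P.ResidueField t)
  obtain ⟨c, d, hd, rfl⟩ := IsFractionRing.div_surjective (A := R ⧸ p) x
  obtain ⟨c, rfl⟩ := Ideal.Quotient.mk_surjective c
  obtain ⟨d, rfl⟩ := Ideal.Quotient.mk_surjective d
  have hd' : d ∉ p := fun h' => nonZeroDivisors.ne_zero hd (Ideal.Quotient.eq_zero_iff_mem.mpr h')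
  refine ⟨c, d, fun h1 => hd' (by rw [h]; exact h1), ?_⟩
  have e : ∀ y : R, Ideal.ResidueField.mapₐ p P (Algebra.ofId R S) h
      (algebraMap (R ⧸ p) p.ResidueField (Ideal.Quotient.mk p y)) =
        algebraMap S P.ResidueField (algebraMap R S y) := by
    intro y
    rw [← Ideal.Quotient.algebraMap_eq, ← IsScalarTower.algebraMap_apply, AlgHom.commutes,
      ← IsScalarTower.algebraMap_apply]
  rw [map_div₀, e, e] at hx
  have hne : algebraMap S P.ResidueField (algebraMap R S d) ≠ 0 := fun h1 =>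
    hd' (h ▸ Ideal.mem_comap.mpr (Ideal.algebraMap_residueField_eq_zero.mp h1))
  rw [div_eq_iff hne, ← map_mul] at hx
  rw [← Ideal.algebraMap_residueField_eq_zero, map_sub, ← hx, sub_self]

theorem bijective_of_fracSurj (h : p = P.comap (algebraMap R S))
    (hf : FracSurj (algebraMap R S) P) :
    Function.Bijective (Ideal.ResidueField.mapₐ p P (Algebra.ofId R S) h) := by
  refine ⟨(Ideal.ResidueField.mapₐ p P (Algebra.ofId R S) h).toRingHom.injective, fun z => ?_⟩
  let φ := Ideal.ResidueField.mapₐ p P (Algebra.ofId R S) h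
  have hS : ∀ t : S, ∃ x, φ x = algebraMap S P.ResidueField t := by
    intro t
    obtain ⟨c, d, hd, ht⟩ := hf t
    refine ⟨algebraMap R p.ResidueField c / algebraMap R p.ResidueField d, ?_⟩
    rw [← Ideal.algebraMap_residueField_eq_zero, map_sub, sub_eq_zero, map_mul] at ht
    have hne : algebraMap S P.ResidueField (algebraMap R S d) ≠ 0 := fun h1 =>
      hd (Ideal.algebraMap_residueField_eq_zero.mp h1)
    rw [map_div₀, AlgHom.commutes, AlgHom.commutes, IsScalarTower.algebraMap_apply R S P.ResidueField c,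
      IsScalarTower.algebraMap_apply R S P.ResidueField d, div_eq_iff hne]
    exact ht.symm
  obtain ⟨a, b, -, rfl⟩ := IsFractionRing.div_surjective (A := S ⧸ P) z
  obtain ⟨a, rfl⟩ := Ideal.Quotient.mk_surjective a
  obtain ⟨b, rfl⟩ := Ideal.Quotient.mk_surjective b
  obtain ⟨x, hx⟩ := hS a
  obtain ⟨y, hy⟩ := hS b
  refine ⟨x / y, ?_⟩
  rw [map_div₀, hx, hy]
  rfl

theorem isEtaleNhd_of_fracSurj [Algebra.Etale R S] (h : p = P.comap (algebraMap R S))
    (hf : FracSurj (algebraMap R S) P) : FlatCA.IsEtaleNhd R S p P :=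
  ⟨inferInstance, ⟨h⟩, bijective_of_fracSurj h hf⟩

theorem isEtaleNhd_fracSurj (h : FlatCA.IsEtaleNhd R S p P) :
    p = P.comap (algebraMap R S) ∧ FracSurj (algebraMap R S) P :=
  ⟨h.2.1.over, fracSurj_of_bijective h.2.1.over h.2.2.2⟩

end Residue

section Exists

/-- A pair of primes over the same prime, one without residue extension, has a prime over both. -/
theorem exists_prime_tensor {R A B : Type u} [CommRing R] [CommRing A] [CommRing B] [Algebra R A]
    [Algebra R B] (P : Ideal A) [P.IsPrime] (q : Ideal B) [q.IsPrime]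
    (hpq : q.comap (algebraMap R B) = P.comap (algebraMap R A)) (hA : FracSurj (algebraMap R A) P) :
    ∃ Q : Ideal (A ⊗[R] B), Q.IsPrime ∧
      Q.comap (Algebra.TensorProduct.includeLeftRingHom : A →+* A ⊗[R] B) = P ∧
      Q.comap (Algebra.TensorProduct.includeRight (R := R) (A := A) (B := B)).toRingHom = q := by
  let p := P.comap (algebraMap R A)
  let e := RingEquiv.ofBijective
    (Ideal.ResidueField.mapₐ p P (Algebra.ofId R A) rfl).toRingHom
    (bijective_of_fracSurj (S := A) rfl hA)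
  let ρ : A →+* q.ResidueField := ((Ideal.ResidueField.mapₐ p q (Algebra.ofId R B) hpq.symm).toRingHom.comp
    e.symm.toRingHom).comp (algebraMap A P.ResidueField)
  let ρₐ : A →ₐ[R] q.ResidueField :=
    { toRingHom := ρ
      commutes' := fun r => by
        have : e.symm (algebraMap A P.ResidueField (algebraMap R A r)) = algebraMap R p.ResidueField r := by
          rw [RingEquiv.symm_apply_eq]
          show _ = Ideal.ResidueField.mapₐ p P (Algebra.ofId R A) rfl (algebraMap R p.ResidueField r)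
          rw [AlgHom.commutes, ← IsScalarTower.algebraMap_apply]
        show Ideal.ResidueField.mapₐ p q (Algebra.ofId R B) hpq.symm
          (e.symm (algebraMap A P.ResidueField (algebraMap R A r))) = _
        rw [this, AlgHom.commutes] }
  let ψ : A ⊗[R] B →ₐ[R] q.ResidueField := Algebra.TensorProduct.lift ρₐ
    (IsScalarTower.toAlgHom R B q.ResidueField) fun _ _ => .all _ _
  refine ⟨RingHom.ker ψ.toRingHom, RingHom.ker_isPrime _, ?_, ?_⟩
  · ext x
    simp only [Ideal.mem_comap, RingHom.mem_ker]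
    show ψ (x ⊗ₜ[R] 1) = 0 ↔ _
    rw [Algebra.TensorProduct.lift_tmul, map_one, mul_one]
    show ρ x = 0 ↔ _
    simp [ρ, Ideal.algebraMap_residueField_eq_zero, -Ideal.ResidueField.mapₐ_apply]
  · ext x
    simp only [Ideal.mem_comap, RingHom.mem_ker]
    show ψ ((1 : A) ⊗ₜ[R] x) = 0 ↔ _
    rw [Algebra.TensorProduct.lift_tmul, map_one, one_mul]
    exact Ideal.algebraMap_residueField_eq_zero

end Exists

end Groth.Agent.H7Flat.ElemDev
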