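import Groth.Agent.H7Flat.ElemDev.GeomMain
import Groth.Agent.H7Flat.ElemDev.Normalization
import Groth.Agent.H8Props.Devissage.BaseChange
import Groth.Agent.H8Props.Devissage.LocalFibre
import Groth.Agent.H7Flat.DevissageChain
import Groth.Agent.H3CAlg.EtaEtale
import Mathlib

/-!
# Ingredients of elementary dévissages: shrinking the support, smooth charts
-/

set_option autoImplicit false
set_option linter.style.haveILetI false
set_option backward.isDefEq.respectTransparency false
set_option maxHeartbeats 1000000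

universe u

open TensorProduct
open scoped Topology

namespace Groth.Agent.H7Flat.ElemDev

theorem exists_opens_le_of_localDim {X : Type*} [TopologicalSpace X] (x : X) {n : ℕ}
    (h : FlatMor.localDim X x = n) :
    ∃ U : TopologicalSpace.Opens X, x ∈ U ∧ topologicalKrullDim (U : Set X) ≤ n := by
  haveI : Nonempty {U : TopologicalSpace.Opens X // x ∈ U} := ⟨⟨⊤, trivial⟩⟩
  obtain ⟨U, hU⟩ := ciInf_mem fun U : {U : TopologicalSpace.Opens X // x ∈ U} =>
    topologicalKrullDim (U.1 : Set X)
  exact ⟨U.1, U.2, le_of_eq (hU.trans h)⟩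

theorem fiberIdeal_isPrime {R S : Type u} [CommRing R] [CommRing S] [Algebra R S] (p : Ideal R)
    [p.IsPrime] (q : Ideal S) [q.IsPrime] [q.LiesOver p] (x : PrimeSpectrum (p.Fiber S))
    (hxq : x.asIdeal = FlatCA.fiberIdeal p q) :
    PrimeSpectrum.comap (Algebra.TensorProduct.includeRight (R := R) (A := p.ResidueField) (B := S)).toRingHom x =
      ⟨q, inferInstance⟩ :=
  PrimeSpectrum.ext (show x.asIdeal.comap _ = q by
    rw [hxq]; exact H8Props.Devissage.comap_fiberIdeal p q)

/-- Near the point, the fibre of the support of the module is cut out by finitely many annihilating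
elements and has dimension at most the local dimension. -/
theorem exists_shrink {R S : Type u} [CommRing R] [CommRing S] [Algebra R S] [Algebra.FiniteType R S]
    (N : Type u) [AddCommGroup N] [Module S N] [Module R N] [IsScalarTower R S N] [Module.Finite S N]
    (p : Ideal R) [p.IsPrime] (q : Ideal S) [q.IsPrime] [q.LiesOver p] (n : ℕ)
    (x : PrimeSpectrum (p.Fiber S)) (hxq : x.asIdeal = FlatCA.fiberIdeal p q)
    (hx : x ∈ Module.support (p.Fiber S) (FlatCA.fiberMod p S N))
    (hn : FlatMor.localDim (Module.support (p.Fiber S) (FlatCA.fiberMod p S N)) ⟨x, hx⟩ = n) :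
    ∃ g ∉ q, ∃ s : Finset S, (s : Set S) ⊆ Module.annihilator S N ∧ (s : Set S) ⊆ q ∧
      ringKrullDim (p.Fiber (Localization.Away g ⧸
        Ideal.span ((algebraMap S (Localization.Away g)) '' (s : Set S)))) ≤ n := by
  classical
  haveI : IsNoetherianRing (p.Fiber S) := Algebra.FiniteType.isNoetherianRing p.ResidueField _
  let incl := (Algebra.TensorProduct.includeRight (R := R) (A := p.ResidueField) (B := S)).toRingHom
  obtain ⟨s₀, hs₀, hspan⟩ := (Submodule.fg_span_iff_fg_span_finset_subset
    (R := p.Fiber S) (incl '' (Module.annihilator S N : Set S))).mp (IsNoetherian.noetherian _)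
  obtain ⟨s, hs, rfl⟩ := Finset.subset_set_image_iff.mp hs₀
  have hxS : PrimeSpectrum.comap incl x ∈ Module.support S N :=
    (H8Props.Devissage.mem_support_fiberMod_iff R S p N x).mp hx
  rw [fiberIdeal_isPrime p q x hxq, Module.mem_support_iff_of_finite] at hxS
  obtain ⟨U, hxU, hdim⟩ := exists_opens_le_of_localDim _ hn
  obtain ⟨O, hO, hOU⟩ := isOpen_induced_iff.mp U.isOpen
  have hxO : x ∈ O := by
    have : (⟨x, hx⟩ : Module.support (p.Fiber S) (FlatCA.fiberMod p S N)) ∈ Subtype.val ⁻¹' O := by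
      rw [hOU]; exact hxU
    exact this
  obtain ⟨_, ⟨b, rfl⟩, hxb, hbO⟩ := (PrimeSpectrum.isTopologicalBasis_basic_opens
    (R := p.Fiber S)).exists_subset_of_mem_open hxO hO
  obtain ⟨r, hr, g, hg⟩ := Ideal.Fiber.exists_smul_eq_one_tmul p b
  have hbg : ∀ P : PrimeSpectrum (p.Fiber S), b ∈ P.asIdeal ↔ g ∈ P.asIdeal.comap incl := by
    intro P
    show _ ↔ (1 : p.ResidueField) ⊗ₜ[R] g ∈ P.asIdeal
    rw [← hg, Algebra.smul_def]
    exact (Ideal.unit_mul_mem_iff_mem _ (isUnit_fibre p hr)).symm
  refine ⟨g, fun hgq => hxb ((hbg x).mpr ?_), s, hs, fun a ha => hxS (hs ha), ?_⟩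
  · have := congrArg PrimeSpectrum.asIdeal (fiberIdeal_isPrime p q x hxq)
    change x.asIdeal.comap incl = q at this
    rw [this]; exact hgq
  let S₁ := Localization.Away g
  let J := Ideal.span ((algebraMap S S₁) '' (s : Set S))
  let C₀ := S₁ ⧸ J
  let em := PrimeSpectrum.comap (algebraMap S C₀)
  have hemb : Topology.IsEmbedding em := by
    have : em = PrimeSpectrum.comap (algebraMap S S₁) ∘ PrimeSpectrum.comap (Ideal.Quotient.mk J) := by
      funext P; exact PrimeSpectrum.ext rfl
    rw [this]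
    exact (PrimeSpectrum.localization_away_isOpenEmbedding S₁ g).isEmbedding.comp
      (PrimeSpectrum.isClosedEmbedding_comap_of_surjective _ _ Ideal.Quotient.mk_surjective).isEmbedding
  let eC := PrimeSpectrum.preimageHomeomorphFiber R C₀ ⟨p, inferInstance⟩
  let eS := PrimeSpectrum.preimageHomeomorphFiber R S ⟨p, inferInstance⟩
  have hmap : ∀ P : ↥(PrimeSpectrum.comap (algebraMap R C₀) ⁻¹' {⟨p, inferInstance⟩}),
      em P.1 ∈ PrimeSpectrum.comap (algebraMap R S) ⁻¹' {⟨p, inferInstance⟩} := fun P => by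
    refine Set.mem_preimage.mpr ?_
    rw [← PrimeSpectrum.comap_comp_apply, ← IsScalarTower.algebraMap_eq]
    exact P.2
  let j₀ : PrimeSpectrum (p.Fiber C₀) → PrimeSpectrum (p.Fiber S) := fun Q =>
    eS ⟨em (eC.symm Q).1, hmap _⟩
  have hj₀ : Topology.IsEmbedding j₀ :=
    eS.isEmbedding.comp (((hemb.comp Topology.IsEmbedding.subtypeVal).comp eC.symm.isEmbedding).codRestrict _ _)
  have hcomap : ∀ Q, (j₀ Q).asIdeal.comap incl = (em (eC.symm Q).1).asIdeal := fun Q =>
    congrArg (fun P => P.1.asIdeal) (eS.symm_apply_apply ⟨em (eC.symm Q).1, hmap _⟩)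
  have hsupp : ∀ Q, j₀ Q ∈ Module.support (p.Fiber S) (FlatCA.fiberMod p S N) := by
    intro Q
    rw [H8Props.Devissage.mem_support_fiberMod_iff, Module.mem_support_iff_of_finite]
    intro a ha
    show a ∈ (j₀ Q).asIdeal.comap incl
    have h1 : incl a ∈ Submodule.span (p.Fiber S) (incl '' (Module.annihilator S N : Set S)) :=
      Submodule.subset_span ⟨a, ha, rfl⟩
    rw [hspan, Finset.coe_image] at h1
    show incl a ∈ (j₀ Q).asIdeal
    refine (Submodule.span_le (R := p.Fiber S) (p := (j₀ Q).asIdeal)).mpr ?_ h1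
    rintro _ ⟨c, hc, rfl⟩
    show c ∈ (j₀ Q).asIdeal.comap incl
    rw [hcomap]
    show algebraMap S C₀ c ∈ (eC.symm Q).1.asIdeal
    rw [show algebraMap S C₀ c = 0 from
      Ideal.Quotient.eq_zero_iff_mem.mpr (Ideal.subset_span ⟨c, hc, rfl⟩)]
    exact zero_mem _
  have hU : ∀ Q, (⟨j₀ Q, hsupp Q⟩ : Module.support (p.Fiber S) (FlatCA.fiberMod p S N)) ∈ U := by
    intro Q
    rw [← SetLike.mem_coe, ← hOU]
    refine hbO fun hb => ?_
    have h1 : algebraMap S C₀ g ∈ (eC.symm Q).1.asIdeal := by
      have h2 := (hbg (j₀ Q)).mp hb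
      rw [hcomap] at h2
      exact h2
    exact (eC.symm Q).1.isPrime.ne_top (Ideal.eq_top_of_isUnit_mem _ h1
      ((IsLocalization.Away.algebraMap_isUnit (S := S₁) g).map (Ideal.Quotient.mk J)))
  have hind : Topology.IsInducing fun Q =>
      (⟨⟨j₀ Q, hsupp Q⟩, hU Q⟩ : (U : Set (Module.support (p.Fiber S) (FlatCA.fiberMod p S N)))) :=
    (hj₀.isInducing.codRestrict hsupp).codRestrict hU
  rw [← PrimeSpectrum.topologicalKrullDim_eq_ringKrullDim]
  exact hind.topologicalKrullDim_le.trans hdim

open AlgebraicGeometry CategoryTheory in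
/-- An etale algebra over a polynomial ring is smooth of the expected relative dimension. -/
theorem smoothRelDim_of_etale {R D : Type u} [CommRing R] [CommRing D] {n : ℕ} [Algebra R D]
    [Algebra (MvPolynomial (Fin n) R) D] [IsScalarTower R (MvPolynomial (Fin n) R) D]
    [Algebra.Etale (MvPolynomial (Fin n) R) D] : FlatCA.SmoothRelDim n R D := by
  let f := Spec.map (CommRingCat.ofHom (algebraMap R (MvPolynomial (Fin n) R)))
  let g := Spec.map (CommRingCat.ofHom (algebraMap (MvPolynomial (Fin n) R) D))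
  haveI : Etale g := (HasRingHomProperty.Spec_iff (P := @Etale)).mpr (RingHom.etale_algebraMap.mpr ‹_›)
  haveI : SmoothOfRelativeDimension n f :=
    (HasRingHomProperty.Spec_iff (P := @SmoothOfRelativeDimension n)).mpr (RingHom.locally_of
      RingHom.isStandardSmoothOfRelativeDimension_respectsIso _ (by
        rw [CommRingCat.hom_ofHom, RingHom.isStandardSmoothOfRelativeDimension_algebraMap]
        exact H3CAlg.EtaEtale.isStandardSmooth_mvPolynomial R n))
  have h : g ≫ f = Spec.map (CommRingCat.ofHom (algebraMap R D)) := by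
    rw [← Spec.map_comp, ← CommRingCat.ofHom_comp, ← IsScalarTower.algebraMap_eq]
  show SmoothOfRelativeDimension n _
  rw [← h]
  have := smoothOfRelativeDimension_comp 0 n g f
  simpa using this

end Groth.Agent.H7Flat.ElemDev
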